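import Mathlib
import Cfsg.Agent.Helper7.ExchangeWords

set_option autoImplicit false

/-!
Generic Iwahori–Hecke operators on `W → ℂ` for a group `W` generated by a set `R` of involutions
with the exchange property (definitions only; project prefix `Hk`).
-/

namespace Cfsg.Agent.Hk

open Cfsg.Agent.Helper7.InvWords

variable {W : Type*} [Group W]

/-- `(W, R)`: `R` consists of involutions, generates `W`, and has the exchange property. -/
structure Sys (R : Set W) : Prop where
  invol : Invol R
  exch : Exchange R
  gen : ∀ w : W, w ∈ Subgroup.closure R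

/-- Left Hecke operator `v ↦ T_r · v` in coordinates (`v = ∑ v x • T_x`). -/
noncomputable def lam (R : Set W) (u : ℂ) (r : W) : Module.End ℂ (W → ℂ) where
  toFun v := fun x =>
    if len R (r * x) < len R x then (u - 1) * v x + v (r * x) else u * v (r * x)
  map_add' := by
    intro v v'
    funext x
    simp only [Pi.add_apply]
    split_ifs <;> ring
  map_smul' := by
    intro c v
    funext x
    simp only [Pi.smul_apply, smul_eq_mul, RingHom.id_apply]
    split_ifs <;> ring

/-- Right Hecke operator `v ↦ v · T_t` in coordinates. -/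
noncomputable def rho (R : Set W) (u : ℂ) (t : W) : Module.End ℂ (W → ℂ) where
  toFun v := fun x =>
    if len R (x * t) < len R x then (u - 1) * v x + v (x * t) else u * v (x * t)
  map_add' := by
    intro v v'
    funext x
    simp only [Pi.add_apply]
    split_ifs <;> ring
  map_smul' := by
    intro c v
    funext x
    simp only [Pi.smul_apply, smul_eq_mul, RingHom.id_apply]
    split_ifs <;> ring

theorem lam_apply (R : Set W) (u : ℂ) (r : W) (v : W → ℂ) (x : W) :
    lam R u r v x =
      if len R (r * x) < len R x then (u - 1) * v x + v (r * x) else u * v (r * x) := rfl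

theorem rho_apply (R : Set W) (u : ℂ) (t : W) (v : W → ℂ) (x : W) :
    rho R u t v x =
      if len R (x * t) < len R x then (u - 1) * v x + v (x * t) else u * v (x * t) := rfl

/-- The "centre" in coordinates: vectors on which left and right multiplication by every
generator agree. -/
def Zsp (R : Set W) (u : ℂ) : Submodule ℂ (W → ℂ) where
  carrier := {v | ∀ r ∈ R, lam R u r v = rho R u r v}
  add_mem' := by
    intro a b ha hb r hr
    rw [map_add, map_add, ha r hr, hb r hr]
  zero_mem' := by
    intro r _
    rw [map_zero, map_zero]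
  smul_mem' := by
    intro c a ha r hr
    rw [map_smul, map_smul, ha r hr]

theorem mem_Zsp {R : Set W} {u : ℂ} {v : W → ℂ} :
    v ∈ Zsp R u ↔ ∀ r ∈ R, lam R u r v = rho R u r v := Iff.rfl

/-- `lam r₁ * ⋯ * lam r_k` for the word `[r₁, …, r_k]` (left multiplication by `T_{r₁} ⋯ T_{r_k}`). -/
noncomputable def Lw (R : Set W) (u : ℂ) (l : List W) : Module.End ℂ (W → ℂ) :=
  (l.map (lam R u)).prod

/-- `rho r_k * ⋯ * rho r₁` for the word `[r₁, …, r_k]` (right multiplication by `T_{r₁} ⋯ T_{r_k}`). -/
noncomputable def Rw (R : Set W) (u : ℂ) (l : List W) : Module.End ℂ (W → ℂ) :=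
  (l.reverse.map (rho R u)).prod

/-- A chosen reduced word of `w` (junk `[]` if there is none). -/
noncomputable def redWord (R : Set W) (w : W) : List W := by
  classical
  exact if h : ∃ l : List W, IsWord R l ∧ l.prod = w ∧ l.length = len R w then h.choose else []

theorem redWord_spec {R : Set W} (h : Sys R) (w : W) :
    IsWord R (redWord R w) ∧ (redWord R w).prod = w ∧ (redWord R w).length = len R w := by
  have hex := exists_reduced_word h.invol (h.gen w)
  unfold redWord
  rw [dif_pos hex]
  exact hex.choose_spec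

/-- Left multiplication by `T_w`. -/
noncomputable def Lop (R : Set W) (u : ℂ) (w : W) : Module.End ℂ (W → ℂ) := Lw R u (redWord R w)

/-- Right multiplication by `T_w`. -/
noncomputable def Rop (R : Set W) (u : ℂ) (w : W) : Module.End ℂ (W → ℂ) := Rw R u (redWord R w)

section fin

variable [Fintype W]

/-- The Hermitian form `⟨δ_x, δ_y⟩ = [x = y] t ^ ℓ(x)`. -/
noncomputable def form (R : Set W) (t : ℝ) (v v' : W → ℂ) : ℂ :=
  ∑ x : W, ((t ^ len R x : ℝ) : ℂ) * (v x * (starRingEnd ℂ) (v' x))

/-- The Casimir (Higman averaging) operator `v ↦ ∑_w t^{-ℓ(w)} T_w v T_{w⁻¹}`. -/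
noncomputable def Cas (R : Set W) (t : ℝ) : Module.End ℂ (W → ℂ) :=
  ∑ w : W, (((t ^ len R w : ℝ) : ℂ)⁻¹) • (Lop R (t : ℂ) w * Rop R (t : ℂ) w⁻¹)

/-- Left multiplication by the central Casimir element `∑_w t^{-ℓ(w)} T_w T_{w⁻¹}`. -/
noncomputable def Lc (R : Set W) (t : ℝ) : Module.End ℂ (W → ℂ) :=
  ∑ w : W, (((t ^ len R w : ℝ) : ℂ)⁻¹) • (Lop R (t : ℂ) w * Lop R (t : ℂ) w⁻¹)

end fin

end Cfsg.Agent.Hk
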