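import Mathlib

set_option autoImplicit false

/-!
The commutant of a complex representation and the centre of the commutant (definitions only;
project prefix `Hk`).
-/

namespace Cfsg.Agent.Hk

variable {G : Type*} [Group G] {V : Type*} [AddCommGroup V] [Module ℂ V]

/-- The commutant (centraliser algebra) of a representation. -/
def commAlg (ρ : Representation ℂ G V) : Subalgebra ℂ (Module.End ℂ V) :=
  Subalgebra.centralizer ℂ (Set.range ρ)

theorem mem_commAlg {ρ : Representation ℂ G V} {T : Module.End ℂ V} :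
    T ∈ commAlg ρ ↔ ∀ g : G, ρ g * T = T * ρ g := by
  unfold commAlg
  rw [Subalgebra.mem_centralizer_iff]
  constructor
  · intro h g
    exact h (ρ g) ⟨g, rfl⟩
  · rintro h _ ⟨g, rfl⟩
    exact h g

/-- The centre of the commutant, as a submodule of `End V`. -/
def commCenter (ρ : Representation ℂ G V) : Submodule ℂ (Module.End ℂ V) where
  carrier := {T | T ∈ commAlg ρ ∧ ∀ S ∈ commAlg ρ, S * T = T * S}
  add_mem' := by
    rintro a b ⟨ha, ha'⟩ ⟨hb, hb'⟩
    exact ⟨add_mem ha hb, fun S hS => by rw [mul_add, add_mul, ha' S hS, hb' S hS]⟩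
  zero_mem' := ⟨zero_mem _, fun S _ => by rw [mul_zero, zero_mul]⟩
  smul_mem' := by
    rintro c a ⟨ha, ha'⟩
    exact ⟨Subalgebra.smul_mem _ ha c, fun S hS => by rw [mul_smul_comm, smul_mul_assoc, ha' S hS]⟩

theorem mem_commCenter {ρ : Representation ℂ G V} {T : Module.End ℂ V} :
    T ∈ commCenter ρ ↔ T ∈ commAlg ρ ∧ ∀ S ∈ commAlg ρ, S * T = T * S := Iff.rfl

end Cfsg.Agent.Hk
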