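import Mathlib
import Cfsg.Agent.Hk.Defs

set_option autoImplicit false

/-!
S2319 swarm, package P1: the generic Hecke operators `lam`, `rho` of `Hk/Defs.lean`:
lengths change by exactly one, the key Coxeter lemma, the commutation `lam r * rho t = rho t * lam r`,
the quadratic relations and the action on basis vectors.
-/

namespace Cfsg.Agent.Hk

open Cfsg.Agent.Helper7.InvWords

variable {W : Type*} [Group W] {R : Set W}

/-- From the exchange property: if `r * w` is not longer than `w`, it is strictly shorter. -/
theorem hk1_lt_of_le (h : Sys R) {r : W} (hr : r ∈ R) (w : W)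
    (hle : len R (r * w) ≤ len R w) : len R (r * w) + 1 ≤ len R w := by
  obtain ⟨l, hl, hlw, hlen⟩ := exists_reduced_word h.invol (h.gen w)
  have hred : l.length = len R l.prod := by rw [hlw, hlen]
  obtain ⟨i, hi, heq⟩ := h.exch l r hl hr hred (by rw [hlw]; exact hle)
  have h1 := len_le_of_word (IsWord.sublist (List.eraseIdx_sublist l i) hl)
  rw [← heq, hlw, List.length_eraseIdx_of_lt hi] at h1
  omega

theorem hk_len_left (h : Sys R) {r : W} (hr : r ∈ R) (w : W) :
    len R (r * w) = len R w + 1 ∨ len R (r * w) + 1 = len R w := by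
  have h1 := len_gen_mul_le h.invol hr (h.gen w)
  have h2 := len_le_gen_mul h.invol hr (h.gen w)
  by_cases hle : len R (r * w) ≤ len R w
  · right
    have := hk1_lt_of_le h hr w hle
    omega
  · left
    omega

theorem hk_len_right (h : Sys R) {t : W} (ht : t ∈ R) (w : W) :
    len R (w * t) = len R w + 1 ∨ len R (w * t) + 1 = len R w := by
  have h1 := hk_len_left h ht w⁻¹
  have e1 : len R (t * w⁻¹) = len R (w * t) := by
    rw [← len_inv h.invol (h.gen (w * t)), mul_inv_rev, h.invol.inv_eq ht]
  rw [e1, len_inv h.invol (h.gen w)] at h1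
  exact h1

/-- The key lemma in the case where both `r * w` and `w * t` are longer than `w`. -/
theorem hk1_key_up (h : Sys R) {r t : W} (hr : r ∈ R) (ht : t ∈ R) (w : W)
    (h1 : len R (r * w * t) = len R w) (h2 : len R (r * w) = len R w + 1)
    (h3 : len R (w * t) = len R w + 1) : r * w = w * t := by
  obtain ⟨l, hl, hlw, hlen⟩ := exists_reduced_word h.invol (h.gen w)
  have hwd : IsWord R (l ++ [t]) :=
    isWord_append.mpr ⟨hl, by intro x hx; rw [List.mem_singleton] at hx; rw [hx]; exact ht⟩
  have hprod : (l ++ [t]).prod = w * t := by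
    rw [List.prod_append, hlw, List.prod_singleton]
  have hred : (l ++ [t]).length = len R (l ++ [t]).prod := by
    rw [hprod, h3, List.length_append, hlen, List.length_singleton]
  have hle : len R (r * (l ++ [t]).prod) ≤ len R (l ++ [t]).prod := by
    rw [hprod, ← mul_assoc, h1, h3]
    omega
  obtain ⟨i, hi, heq⟩ := h.exch (l ++ [t]) r hwd hr hred hle
  rw [hprod, ← mul_assoc] at heq
  rw [List.length_append, List.length_singleton] at hi
  by_cases hil : i < l.length
  · exfalso
    rw [List.eraseIdx_append_of_lt_length hil, List.prod_append, List.prod_singleton] at heq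
    have heq' : r * w = (l.eraseIdx i).prod := mul_right_cancel heq
    have h5 := len_le_of_word (IsWord.sublist (List.eraseIdx_sublist l i) hl)
    rw [← heq', List.length_eraseIdx_of_lt hil] at h5
    omega
  · have hi' : i = l.length := by omega
    subst hi'
    rw [List.eraseIdx_append_of_length_le (le_refl _), Nat.sub_self, List.prod_append, hlw] at heq
    have e0 : ([t].eraseIdx 0).prod = (1 : W) := by simp
    rw [e0, mul_one] at heq
    -- `r * w * t = w`
    have : r * w = w * t := by
      have e2 : r * w * t * t = w * t := by rw [heq]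
      rw [mul_assoc (r * w), h.invol t ht, mul_one] at e2
      exact e2
    exact this

/-- The key Coxeter lemma: `ℓ(rwt) = ℓ(w)` and `ℓ(rw) = ℓ(wt)` force `rw = wt`. -/
theorem hk_key (h : Sys R) {r t : W} (hr : r ∈ R) (ht : t ∈ R) (w : W)
    (h1 : len R (r * w * t) = len R w) (h2 : len R (r * w) = len R (w * t)) :
    r * w = w * t := by
  rcases hk_len_left h hr w with h3 | h3
  · exact hk1_key_up h hr ht w h1 h3 (by omega)
  · -- apply the first case to `w' = r * w`
    have e1 : r * (r * w) = w := by rw [← mul_assoc, h.invol r hr, one_mul]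
    have k := hk1_key_up h hr ht (r * w)
      (by rw [e1, ← h2])
      (by rw [e1]; omega)
      (by rw [h1]; omega)
    rw [e1] at k
    -- `k : w = r * w * t`
    have e2 : w * t = r * w * t * t := by rw [← k]
    rw [mul_assoc (r * w), h.invol t ht, mul_one] at e2
    exact e2.symm

theorem hk_lam_rho_comm (h : Sys R) (u : ℂ) {r t : W} (hr : r ∈ R) (ht : t ∈ R) :
    lam R u r * rho R u t = rho R u t * lam R u r := by
  apply LinearMap.ext
  intro v
  funext x
  simp only [Module.End.mul_apply, lam_apply, rho_apply]
  have a1 := hk_len_left h hr x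
  have a2 := hk_len_right h ht x
  have a3 := hk_len_right h ht (r * x)
  have a4 := hk_len_left h hr (x * t)
  have e : r * (x * t) = r * x * t := (mul_assoc _ _ _).symm
  rw [e] at a4 ⊢
  have hBC : len R (r * x * t) = len R x → len R (r * x) = len R (x * t) →
      v (r * x) = v (x * t) := by
    intro e1 e2
    rw [hk_key h hr ht x e1 e2]
  generalize len R (r * x * t) = d at *
  generalize len R (r * x) = b at *
  generalize len R (x * t) = c at *
  generalize len R x = a at *
  split_ifs <;>
    first
    | ring1
    | (exfalso; omega)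
    | (rw [hBC (by omega) (by omega)]; try ring1)

theorem hk_lam_sq (h : Sys R) (u : ℂ) {r : W} (hr : r ∈ R) :
    lam R u r * lam R u r = (u - 1) • lam R u r + u • (1 : Module.End ℂ (W → ℂ)) := by
  apply LinearMap.ext
  intro v
  funext x
  simp only [Module.End.mul_apply, lam_apply, LinearMap.add_apply, LinearMap.smul_apply,
    Module.End.one_apply, Pi.add_apply, Pi.smul_apply, smul_eq_mul]
  have e1 : r * (r * x) = x := by rw [← mul_assoc, h.invol r hr, one_mul]
  rw [e1]
  have a1 := hk_len_left h hr x
  generalize len R (r * x) = b at *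
  generalize len R x = a at *
  split_ifs <;>
    first
    | ring1
    | (exfalso; omega)

theorem hk_rho_sq (h : Sys R) (u : ℂ) {t : W} (ht : t ∈ R) :
    rho R u t * rho R u t = (u - 1) • rho R u t + u • (1 : Module.End ℂ (W → ℂ)) := by
  apply LinearMap.ext
  intro v
  funext x
  simp only [Module.End.mul_apply, rho_apply, LinearMap.add_apply, LinearMap.smul_apply,
    Module.End.one_apply, Pi.add_apply, Pi.smul_apply, smul_eq_mul]
  have e1 : x * t * t = x := by rw [mul_assoc, h.invol t ht, mul_one]
  rw [e1]
  have a1 := hk_len_right h ht x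
  generalize len R (x * t) = b at *
  generalize len R x = a at *
  split_ifs <;>
    first
    | ring1
    | (exfalso; omega)

theorem hk_lam_single [DecidableEq W] (h : Sys R) (u : ℂ) {r : W} (hr : r ∈ R) {w : W}
    (hlt : len R w < len R (r * w)) :
    lam R u r (Pi.single w (1 : ℂ)) = Pi.single (r * w) 1 := by
  funext x
  rw [lam_apply]
  have e1 : r * (r * w) = w := by rw [← mul_assoc, h.invol r hr, one_mul]
  have hne : r * w ≠ w := by
    intro hh
    rw [hh] at hlt
    exact lt_irrefl _ hlt
  by_cases hx : x = r * w
  · subst hx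
    rw [e1, if_pos hlt, Pi.single_eq_same, Pi.single_eq_same, Pi.single_eq_of_ne hne, mul_zero,
      zero_add]
  · have hrx : r * x ≠ w := by
      intro hh
      apply hx
      rw [← hh, ← mul_assoc, h.invol r hr, one_mul]
    rw [Pi.single_eq_of_ne hrx, Pi.single_eq_of_ne hx]
    by_cases hxw : x = w
    · subst hxw
      rw [if_neg (not_lt.mpr hlt.le), mul_zero]
    · rw [Pi.single_eq_of_ne hxw]
      split_ifs <;> ring

theorem hk_rho_single [DecidableEq W] (h : Sys R) (u : ℂ) {t : W} (ht : t ∈ R) {w : W}
    (hlt : len R w < len R (w * t)) :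
    rho R u t (Pi.single w (1 : ℂ)) = Pi.single (w * t) 1 := by
  funext x
  rw [rho_apply]
  have e1 : w * t * t = w := by rw [mul_assoc, h.invol t ht, mul_one]
  have hne : w * t ≠ w := by
    intro hh
    rw [hh] at hlt
    exact lt_irrefl _ hlt
  by_cases hx : x = w * t
  · subst hx
    rw [e1, if_pos hlt, Pi.single_eq_same, Pi.single_eq_same, Pi.single_eq_of_ne hne, mul_zero,
      zero_add]
  · have hrx : x * t ≠ w := by
      intro hh
      apply hx
      rw [← hh, mul_assoc, h.invol t ht, mul_one]
    rw [Pi.single_eq_of_ne hrx, Pi.single_eq_of_ne hx]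
    by_cases hxw : x = w
    · subst hxw
      rw [if_neg (not_lt.mpr hlt.le), mul_zero]
    · rw [Pi.single_eq_of_ne hxw]
      split_ifs <;> ring

end Cfsg.Agent.Hk
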