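import Mathlib
import Cfsg.Agent.Hk.Ops

set_option autoImplicit false

/-!
S2319 swarm, first half of package P2: word operators `Lw`, `Rw`, `Lop`, `Rop` of `Hk/Defs.lean`
evaluated at `δ₁`, injectivity of evaluation at `δ₁` on the algebra generated by the `lam r`
(resp. `rho r`), and independence of `Lw l` of the reduced word `l`.
-/

namespace Cfsg.Agent.Hk

open Cfsg.Agent.Helper7.InvWords

variable {W : Type*} [Group W] {R : Set W}

theorem hk2a_Lw_nil (u : ℂ) : Lw R u ([] : List W) = 1 := by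
  simp [Lw]

theorem hk2a_Lw_cons (u : ℂ) (r : W) (l : List W) :
    Lw R u (r :: l) = lam R u r * Lw R u l := by
  simp [Lw]

theorem hk2a_Rw_nil (u : ℂ) : Rw R u ([] : List W) = 1 := by
  simp [Rw]

theorem hk2a_Rw_concat (u : ℂ) (l : List W) (t : W) :
    Rw R u (l ++ [t]) = rho R u t * Rw R u l := by
  simp [Rw]

theorem hk2a_Rw_cons (u : ℂ) (r : W) (l : List W) :
    Rw R u (r :: l) = Rw R u l * rho R u r := by
  simp [Rw]

/-- An initial segment of a reduced word is reduced. -/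
theorem hk2a_reduced_init (h : Sys R) {l : List W} {t : W} (hw : IsWord R (l ++ [t]))
    (hred : Cfsg.Agent.Helper7.InvWords.IsReduced R (l ++ [t])) :
    Cfsg.Agent.Helper7.InvWords.IsReduced R l := by
  unfold Cfsg.Agent.Helper7.InvWords.IsReduced at hred ⊢
  rw [isWord_append] at hw
  have ht : t ∈ R := hw.2 t (by simp)
  have h1 := len_le_of_word hw.1
  have h2 := len_mul_gen_le h.invol ht (h.gen l.prod)
  rw [List.prod_append, List.prod_singleton, List.length_append, List.length_singleton] at hred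
  omega

theorem hk_Lw_single [DecidableEq W] (h : Sys R) (u : ℂ) {l : List W} (hl : IsWord R l)
    (hred : Cfsg.Agent.Helper7.InvWords.IsReduced R l) :
    Lw R u l (Pi.single 1 (1 : ℂ)) = Pi.single l.prod 1 := by
  induction l with
  | nil => rw [hk2a_Lw_nil, Module.End.one_apply, List.prod_nil]
  | cons r l ih =>
    have hw := isWord_cons.mp hl
    have hredl := hred.tail h.invol hl
    rw [hk2a_Lw_cons, Module.End.mul_apply, ih hw.2 hredl, List.prod_cons]
    apply hk_lam_single h u hw.1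
    unfold Cfsg.Agent.Helper7.InvWords.IsReduced at hred hredl
    rw [List.prod_cons, List.length_cons] at hred
    omega

theorem hk_Rw_single [DecidableEq W] (h : Sys R) (u : ℂ) {l : List W} (hl : IsWord R l)
    (hred : Cfsg.Agent.Helper7.InvWords.IsReduced R l) :
    Rw R u l (Pi.single 1 (1 : ℂ)) = Pi.single l.prod 1 := by
  induction l using List.reverseRecOn with
  | nil => rw [hk2a_Rw_nil, Module.End.one_apply, List.prod_nil]
  | append_singleton l t ih =>
    have hw := isWord_append.mp hl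
    have ht : t ∈ R := hw.2 t (by simp)
    have hredl := hk2a_reduced_init h hl hred
    rw [hk2a_Rw_concat, Module.End.mul_apply, ih hw.1 hredl, List.prod_append,
      List.prod_singleton]
    apply hk_rho_single h u ht
    unfold Cfsg.Agent.Helper7.InvWords.IsReduced at hred hredl
    rw [List.prod_append, List.prod_singleton, List.length_append, List.length_singleton] at hred
    omega

theorem hk2a_redWord_reduced (h : Sys R) (w : W) :
    Cfsg.Agent.Helper7.InvWords.IsReduced R (redWord R w) := by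
  obtain ⟨_, hp, hlen⟩ := redWord_spec h w
  unfold Cfsg.Agent.Helper7.InvWords.IsReduced
  rw [hp, hlen]

theorem hk_Lop_single [DecidableEq W] (h : Sys R) (u : ℂ) (w : W) :
    Lop R u w (Pi.single 1 (1 : ℂ)) = Pi.single w 1 := by
  have hs := redWord_spec h w
  unfold Lop
  rw [hk_Lw_single h u hs.1 (hk2a_redWord_reduced h w), hs.2.1]

theorem hk_Rop_single [DecidableEq W] (h : Sys R) (u : ℂ) (w : W) :
    Rop R u w (Pi.single 1 (1 : ℂ)) = Pi.single w 1 := by
  have hs := redWord_spec h w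
  unfold Rop
  rw [hk_Rw_single h u hs.1 (hk2a_redWord_reduced h w), hs.2.1]

/-- A word operator `Lw l` commutes with every `rho t`. -/
theorem hk2a_Lw_comm_rho (h : Sys R) (u : ℂ) {l : List W} (hl : IsWord R l) {t : W}
    (ht : t ∈ R) : Lw R u l * rho R u t = rho R u t * Lw R u l := by
  induction l with
  | nil => rw [hk2a_Lw_nil, one_mul, mul_one]
  | cons r l ih =>
    have hw := isWord_cons.mp hl
    rw [hk2a_Lw_cons, mul_assoc, ih hw.2, ← mul_assoc, hk_lam_rho_comm h u hw.1 ht, mul_assoc]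

/-- A word operator `Rw l` commutes with every `lam r`. -/
theorem hk2a_Rw_comm_lam (h : Sys R) (u : ℂ) {l : List W} (hl : IsWord R l) {r : W}
    (hr : r ∈ R) : Rw R u l * lam R u r = lam R u r * Rw R u l := by
  induction l with
  | nil => rw [hk2a_Rw_nil, one_mul, mul_one]
  | cons t l ih =>
    have hw := isWord_cons.mp hl
    rw [hk2a_Rw_cons, mul_assoc, ← hk_lam_rho_comm h u hr hw.1, ← mul_assoc, ih hw.2, mul_assoc]

/-- Elements of the algebra generated by the `lam r` commute with every `rho t`. -/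
theorem hk2a_adjoin_lam_comm_rho (h : Sys R) (u : ℂ) (φ : Module.End ℂ (W → ℂ))
    (hφ : φ ∈ Algebra.adjoin ℂ ((lam R u) '' R)) {t : W} (ht : t ∈ R) :
    φ * rho R u t = rho R u t * φ := by
  have hle : Algebra.adjoin ℂ ((lam R u) '' R) ≤ Subalgebra.centralizer ℂ ((rho R u) '' R) := by
    apply Algebra.adjoin_le
    rintro _ ⟨r, hr, rfl⟩
    rw [SetLike.mem_coe, Subalgebra.mem_centralizer_iff]
    rintro _ ⟨t, ht, rfl⟩
    exact (hk_lam_rho_comm h u hr ht).symm
  have := (Subalgebra.mem_centralizer_iff ℂ).mp (hle hφ) (rho R u t) ⟨t, ht, rfl⟩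
  exact this.symm

/-- Elements of the algebra generated by the `rho t` commute with every `lam r`. -/
theorem hk2a_adjoin_rho_comm_lam (h : Sys R) (u : ℂ) (φ : Module.End ℂ (W → ℂ))
    (hφ : φ ∈ Algebra.adjoin ℂ ((rho R u) '' R)) {r : W} (hr : r ∈ R) :
    φ * lam R u r = lam R u r * φ := by
  have hle : Algebra.adjoin ℂ ((rho R u) '' R) ≤ Subalgebra.centralizer ℂ ((lam R u) '' R) := by
    apply Algebra.adjoin_le
    rintro _ ⟨t, ht, rfl⟩
    rw [SetLike.mem_coe, Subalgebra.mem_centralizer_iff]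
    rintro _ ⟨r, hr, rfl⟩
    exact hk_lam_rho_comm h u hr ht
  have := (Subalgebra.mem_centralizer_iff ℂ).mp (hle hφ) (lam R u r) ⟨r, hr, rfl⟩
  exact this.symm

theorem hk2a_comm_Rw (u : ℂ) (φ : Module.End ℂ (W → ℂ))
    (hc : ∀ t ∈ R, φ * rho R u t = rho R u t * φ) {l : List W} (hl : IsWord R l) :
    φ * Rw R u l = Rw R u l * φ := by
  induction l with
  | nil => rw [hk2a_Rw_nil, one_mul, mul_one]
  | cons t l ih =>
    have hw := isWord_cons.mp hl
    rw [hk2a_Rw_cons, ← mul_assoc, ih hw.2, mul_assoc, hc t hw.1, mul_assoc]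

theorem hk2a_comm_Lw (u : ℂ) (φ : Module.End ℂ (W → ℂ))
    (hc : ∀ r ∈ R, φ * lam R u r = lam R u r * φ) {l : List W} (hl : IsWord R l) :
    φ * Lw R u l = Lw R u l * φ := by
  induction l with
  | nil => rw [hk2a_Lw_nil, one_mul, mul_one]
  | cons r l ih =>
    have hw := isWord_cons.mp hl
    rw [hk2a_Lw_cons, ← mul_assoc, hc r hw.1, mul_assoc, ih hw.2, mul_assoc]

/-- An operator commuting with all `rho t` and killing `δ₁` is zero. -/
theorem hk2a_eq_zero_of_comm_rho [Finite W] [DecidableEq W] (h : Sys R) (u : ℂ)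
    (φ : Module.End ℂ (W → ℂ)) (hc : ∀ t ∈ R, φ * rho R u t = rho R u t * φ)
    (h0 : φ (Pi.single 1 (1 : ℂ)) = 0) : φ = 0 := by
  apply LinearMap.pi_ext
  intro w x
  have hs := redWord_spec h w
  have e1 : (Pi.single w x : W → ℂ) = x • Rw R u (redWord R w) (Pi.single 1 (1 : ℂ)) := by
    rw [hk_Rw_single h u hs.1 (hk2a_redWord_reduced h w), hs.2.1]
    funext y
    by_cases hy : y = w
    · subst hy
      simp
    · simp [Pi.single_eq_of_ne hy]
  have e2 := hk2a_comm_Rw u φ hc hs.1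
  rw [e1, map_smul, ← Module.End.mul_apply, e2, Module.End.mul_apply, h0, map_zero, smul_zero,
    LinearMap.zero_apply]

/-- An operator commuting with all `lam r` and killing `δ₁` is zero. -/
theorem hk2a_eq_zero_of_comm_lam [Finite W] [DecidableEq W] (h : Sys R) (u : ℂ)
    (φ : Module.End ℂ (W → ℂ)) (hc : ∀ r ∈ R, φ * lam R u r = lam R u r * φ)
    (h0 : φ (Pi.single 1 (1 : ℂ)) = 0) : φ = 0 := by
  apply LinearMap.pi_ext
  intro w x
  have hs := redWord_spec h w
  have e1 : (Pi.single w x : W → ℂ) = x • Lw R u (redWord R w) (Pi.single 1 (1 : ℂ)) := by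
    rw [hk_Lw_single h u hs.1 (hk2a_redWord_reduced h w), hs.2.1]
    funext y
    by_cases hy : y = w
    · subst hy
      simp
    · simp [Pi.single_eq_of_ne hy]
  have e2 := hk2a_comm_Lw u φ hc hs.1
  rw [e1, map_smul, ← Module.End.mul_apply, e2, Module.End.mul_apply, h0, map_zero, smul_zero,
    LinearMap.zero_apply]

theorem hk_eval_inj [Finite W] [DecidableEq W] (h : Sys R) (u : ℂ) (φ : Module.End ℂ (W → ℂ))
    (hφ : φ ∈ Algebra.adjoin ℂ ((lam R u) '' R)) (h0 : φ (Pi.single 1 (1 : ℂ)) = 0) : φ = 0 :=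
  hk2a_eq_zero_of_comm_rho h u φ (fun _ ht => hk2a_adjoin_lam_comm_rho h u φ hφ ht) h0

theorem hk_eval_inj_rho [Finite W] [DecidableEq W] (h : Sys R) (u : ℂ)
    (φ : Module.End ℂ (W → ℂ))
    (hφ : φ ∈ Algebra.adjoin ℂ ((rho R u) '' R)) (h0 : φ (Pi.single 1 (1 : ℂ)) = 0) : φ = 0 :=
  hk2a_eq_zero_of_comm_lam h u φ (fun _ hr => hk2a_adjoin_rho_comm_lam h u φ hφ hr) h0

theorem hk2a_Lw_mem_adjoin (u : ℂ) {l : List W} (hl : IsWord R l) :
    Lw R u l ∈ Algebra.adjoin ℂ ((lam R u) '' R) := by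
  unfold Lw
  apply Subalgebra.list_prod_mem
  intro x hx
  obtain ⟨r, hr, rfl⟩ := List.mem_map.mp hx
  exact Algebra.subset_adjoin ⟨r, hl r hr, rfl⟩

theorem hk2a_Rw_mem_adjoin (u : ℂ) {l : List W} (hl : IsWord R l) :
    Rw R u l ∈ Algebra.adjoin ℂ ((rho R u) '' R) := by
  unfold Rw
  apply Subalgebra.list_prod_mem
  intro x hx
  obtain ⟨r, hr, rfl⟩ := List.mem_map.mp hx
  exact Algebra.subset_adjoin ⟨r, hl r (List.mem_reverse.mp hr), rfl⟩

theorem hk_Lw_eq_Lop [Finite W] (h : Sys R) (u : ℂ) {l : List W} (hl : IsWord R l)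
    (hred : Cfsg.Agent.Helper7.InvWords.IsReduced R l) : Lw R u l = Lop R u l.prod := by
  classical
  have hs := redWord_spec h l.prod
  have hm : Lw R u l - Lop R u l.prod ∈ Algebra.adjoin ℂ ((lam R u) '' R) :=
    Subalgebra.sub_mem _ (hk2a_Lw_mem_adjoin u hl) (hk2a_Lw_mem_adjoin u hs.1)
  have h0 : (Lw R u l - Lop R u l.prod) (Pi.single 1 (1 : ℂ)) = 0 := by
    rw [LinearMap.sub_apply, hk_Lw_single h u hl hred, hk_Lop_single h u, sub_self]
  exact sub_eq_zero.mp (hk_eval_inj h u _ hm h0)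

theorem hk_Rw_eq_Rop [Finite W] (h : Sys R) (u : ℂ) {l : List W} (hl : IsWord R l)
    (hred : Cfsg.Agent.Helper7.InvWords.IsReduced R l) : Rw R u l = Rop R u l.prod := by
  classical
  have hs := redWord_spec h l.prod
  have hm : Rw R u l - Rop R u l.prod ∈ Algebra.adjoin ℂ ((rho R u) '' R) :=
    Subalgebra.sub_mem _ (hk2a_Rw_mem_adjoin u hl) (hk2a_Rw_mem_adjoin u hs.1)
  have h0 : (Rw R u l - Rop R u l.prod) (Pi.single 1 (1 : ℂ)) = 0 := by
    rw [LinearMap.sub_apply, hk_Rw_single h u hl hred, hk_Rop_single h u, sub_self]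
  exact sub_eq_zero.mp (hk_eval_inj_rho h u _ hm h0)

theorem hk2a_redWord_one (h : Sys R) : redWord R (1 : W) = [] := by
  have hs := redWord_spec h (1 : W)
  rw [len_one] at hs
  exact List.length_eq_zero_iff.mp hs.2.2

theorem hk_Lop_one [Finite W] (h : Sys R) (u : ℂ) : Lop R u (1 : W) = 1 := by
  unfold Lop
  rw [hk2a_redWord_one h, hk2a_Lw_nil]

theorem hk_Rop_one [Finite W] (h : Sys R) (u : ℂ) : Rop R u (1 : W) = 1 := by
  unfold Rop
  rw [hk2a_redWord_one h, hk2a_Rw_nil]

end Cfsg.Agent.Hk
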