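import Mathlib
import Cfsg.Agent.Hk.Ops
import Cfsg.Agent.Hk.AlgA

set_option autoImplicit false

/-!
S2319 swarm, package P2 (second half): commutation of `Lop` with `rho`/`Rop`, the Iwahori
relations for `Lop`, `Rop`, agreement of `Lop w` and `Rop w` on `Zsp`, and centrality in the
`lam`-algebra of elements whose value at `δ_1` lies in `Zsp`.
-/

namespace Cfsg.Agent.Hk

open Cfsg.Agent.Helper7.InvWords

variable {W : Type*} [Group W] {R : Set W}

theorem hk2b_Lw_cons (u : ℂ) (r : W) (l : List W) : Lw R u (r :: l) = lam R u r * Lw R u l := by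
  unfold Lw
  rw [List.map_cons, List.prod_cons]

theorem hk2b_Rw_cons (u : ℂ) (r : W) (l : List W) : Rw R u (r :: l) = Rw R u l * rho R u r := by
  unfold Rw
  rw [List.reverse_cons, List.map_append, List.prod_append, List.map_singleton, List.prod_singleton]

theorem hk2b_Rw_concat (u : ℂ) (l : List W) (t : W) : Rw R u (l ++ [t]) = rho R u t * Rw R u l := by
  unfold Rw
  rw [List.reverse_append, List.reverse_singleton, List.singleton_append, List.map_cons,
    List.prod_cons]

theorem hk2b_Lw_nil (u : ℂ) : Lw R u ([] : List W) = 1 := rfl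

theorem hk2b_Rw_nil (u : ℂ) : Rw R u ([] : List W) = 1 := rfl

theorem hk2b_Lw_comm_rho (h : Sys R) (u : ℂ) {l : List W} (hl : IsWord R l) {t : W} (ht : t ∈ R) :
    Lw R u l * rho R u t = rho R u t * Lw R u l := by
  induction l with
  | nil => rw [hk2b_Lw_nil, one_mul, mul_one]
  | cons r l ih =>
    rw [isWord_cons] at hl
    rw [hk2b_Lw_cons, mul_assoc, ih hl.2, ← mul_assoc, hk_lam_rho_comm h u hl.1 ht, mul_assoc]

theorem hk2b_Rw_comm_lam (h : Sys R) (u : ℂ) {l : List W} (hl : IsWord R l) {r : W} (hr : r ∈ R) :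
    Rw R u l * lam R u r = lam R u r * Rw R u l := by
  induction l with
  | nil => rw [hk2b_Rw_nil, one_mul, mul_one]
  | cons t l ih =>
    rw [isWord_cons] at hl
    rw [hk2b_Rw_cons, mul_assoc, ← hk_lam_rho_comm h u hr hl.1, ← mul_assoc, ih hl.2, mul_assoc]

theorem hk2b_Lw_comm_Rw (h : Sys R) (u : ℂ) {l l' : List W} (hl : IsWord R l) (hl' : IsWord R l') :
    Lw R u l * Rw R u l' = Rw R u l' * Lw R u l := by
  induction l' with
  | nil => rw [hk2b_Rw_nil, one_mul, mul_one]
  | cons t l' ih =>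
    rw [isWord_cons] at hl'
    rw [hk2b_Rw_cons, ← mul_assoc, ih hl'.2, mul_assoc, hk2b_Lw_comm_rho h u hl hl'.1, mul_assoc]

theorem hk_Lop_comm_rho (h : Sys R) (u : ℂ) (w : W) {t : W} (ht : t ∈ R) :
    Lop R u w * rho R u t = rho R u t * Lop R u w :=
  hk2b_Lw_comm_rho h u (redWord_spec h w).1 ht

theorem hk_Rop_comm_lam (h : Sys R) (u : ℂ) (w : W) {r : W} (hr : r ∈ R) :
    Rop R u w * lam R u r = lam R u r * Rop R u w :=
  hk2b_Rw_comm_lam h u (redWord_spec h w).1 hr

theorem hk_Lop_comm_Rop (h : Sys R) (u : ℂ) (w w' : W) :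
    Lop R u w * Rop R u w' = Rop R u w' * Lop R u w :=
  hk2b_Lw_comm_Rw h u (redWord_spec h w).1 (redWord_spec h w').1

theorem hk_lam_Lop_up [Finite W] (h : Sys R) (u : ℂ) {r : W} (hr : r ∈ R) {w : W}
    (hlt : len R w < len R (r * w)) : lam R u r * Lop R u w = Lop R u (r * w) := by
  obtain ⟨hw1, hw2, hw3⟩ := redWord_spec h w
  have hword : IsWord R (r :: redWord R w) := isWord_cons.mpr ⟨hr, hw1⟩
  have hprod : (r :: redWord R w).prod = r * w := by rw [List.prod_cons, hw2]
  have hred : IsReduced R (r :: redWord R w) := by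
    unfold Cfsg.Agent.Helper7.InvWords.IsReduced
    rw [hprod, List.length_cons, hw3]
    rcases hk_len_left h hr w with h1 | h1 <;> omega
  have := hk_Lw_eq_Lop h u hword hred
  rw [hprod, hk2b_Lw_cons] at this
  exact this

theorem hk_lam_Lop_down [Finite W] (h : Sys R) (u : ℂ) {r : W} (hr : r ∈ R) {w : W}
    (hlt : len R (r * w) < len R w) :
    lam R u r * Lop R u w = (u - 1) • Lop R u w + u • Lop R u (r * w) := by
  have hrr : r * (r * w) = w := by rw [← mul_assoc, h.invol r hr, one_mul]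
  have hlt' : len R (r * w) < len R (r * (r * w)) := by rw [hrr]; exact hlt
  have hup := hk_lam_Lop_up h u hr hlt'
  rw [hrr] at hup
  rw [← hup, ← mul_assoc, hk_lam_sq h u hr, add_mul, smul_mul_assoc, smul_mul_assoc, one_mul]

theorem hk_rho_Rop_up [Finite W] (h : Sys R) (u : ℂ) {t : W} (ht : t ∈ R) {w : W}
    (hlt : len R w < len R (w * t)) : rho R u t * Rop R u w = Rop R u (w * t) := by
  obtain ⟨hw1, hw2, hw3⟩ := redWord_spec h w
  have hword : IsWord R (redWord R w ++ [t]) :=
    isWord_append.mpr ⟨hw1, by intro x hx; rw [List.mem_singleton] at hx; rw [hx]; exact ht⟩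
  have hprod : (redWord R w ++ [t]).prod = w * t := by
    rw [List.prod_append, hw2, List.prod_singleton]
  have hred : IsReduced R (redWord R w ++ [t]) := by
    unfold Cfsg.Agent.Helper7.InvWords.IsReduced
    rw [hprod, List.length_append, List.length_singleton, hw3]
    rcases hk_len_right h ht w with h1 | h1 <;> omega
  have := hk_Rw_eq_Rop h u hword hred
  rw [hprod, hk2b_Rw_concat] at this
  exact this

theorem hk_rho_Rop_down [Finite W] (h : Sys R) (u : ℂ) {t : W} (ht : t ∈ R) {w : W}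
    (hlt : len R (w * t) < len R w) :
    rho R u t * Rop R u w = (u - 1) • Rop R u w + u • Rop R u (w * t) := by
  have htt : w * t * t = w := by rw [mul_assoc, h.invol t ht, mul_one]
  have hlt' : len R (w * t) < len R (w * t * t) := by rw [htt]; exact hlt
  have hup := hk_rho_Rop_up h u ht hlt'
  rw [htt] at hup
  rw [← hup, ← mul_assoc, hk_rho_sq h u ht, add_mul, smul_mul_assoc, smul_mul_assoc, one_mul]

theorem hk2b_Lw_eq_Rw_of_mem (h : Sys R) (u : ℂ) {v : W → ℂ} (hv : v ∈ Zsp R u) {l : List W}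
    (hl : IsWord R l) : Lw R u l v = Rw R u l v := by
  induction l with
  | nil => rfl
  | cons r l ih =>
    rw [isWord_cons] at hl
    have hcomm := hk2b_Rw_comm_lam h u hl.2 hl.1
    rw [hk2b_Lw_cons, hk2b_Rw_cons, Module.End.mul_apply, Module.End.mul_apply, ih hl.2,
      ← hv r hl.1, ← Module.End.mul_apply, ← Module.End.mul_apply, hcomm]

/-- on the "centre" left and right multiplication by `T_w` agree -/
theorem hk_Lop_eq_Rop_of_mem (h : Sys R) (u : ℂ) {v : W → ℂ} (hv : v ∈ Zsp R u) (w : W) :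
    Lop R u w v = Rop R u w v :=
  hk2b_Lw_eq_Rw_of_mem h u hv (redWord_spec h w).1

theorem hk_Lop_mem_adjoin (h : Sys R) (u : ℂ) (w : W) :
    Lop R u w ∈ Algebra.adjoin ℂ ((lam R u) '' R) := by
  unfold Lop Lw
  apply Subalgebra.list_prod_mem
  intro x hx
  rw [List.mem_map] at hx
  obtain ⟨r, hr, rfl⟩ := hx
  exact Algebra.subset_adjoin ⟨r, (redWord_spec h w).1 r hr, rfl⟩

/-- every element of the `lam`-algebra commutes with every `rho t` -/
theorem hk2b_adjoin_comm_rho (h : Sys R) (u : ℂ) {φ : Module.End ℂ (W → ℂ)}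
    (hφ : φ ∈ Algebra.adjoin ℂ ((lam R u) '' R)) {t : W} (ht : t ∈ R) :
    φ * rho R u t = rho R u t * φ := by
  have hle : Algebra.adjoin ℂ ((lam R u) '' R) ≤ Subalgebra.centralizer ℂ {rho R u t} := by
    apply Algebra.adjoin_le
    rintro _ ⟨r, hr, rfl⟩
    rw [SetLike.mem_coe, Subalgebra.mem_centralizer_iff]
    intro g hg
    rw [Set.mem_singleton_iff] at hg
    rw [hg]
    exact (hk_lam_rho_comm h u hr ht).symm
  have := hle hφ
  rw [Subalgebra.mem_centralizer_iff] at this
  exact (this (rho R u t) rfl).symm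

theorem hk2b_len_gen (h : Sys R) {r : W} (hr : r ∈ R) : len R (1 : W) < len R (r * 1) := by
  rcases hk_len_left h hr 1 with h1 | h1
  · omega
  · rw [len_one] at h1
    omega

/-- an element of the `lam`-algebra whose value at `δ_1` is central commutes with every `lam r` -/
theorem hk_comm_lam_of_eval_mem [Finite W] [DecidableEq W] (h : Sys R) (u : ℂ)
    (φ : Module.End ℂ (W → ℂ)) (hφ : φ ∈ Algebra.adjoin ℂ ((lam R u) '' R))
    (hz : φ (Pi.single 1 (1 : ℂ)) ∈ Zsp R u) {r : W} (hr : r ∈ R) :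
    φ * lam R u r = lam R u r * φ := by
  have hlam : lam R u r ∈ Algebra.adjoin ℂ ((lam R u) '' R) := Algebra.subset_adjoin ⟨r, hr, rfl⟩
  have hmem : φ * lam R u r - lam R u r * φ ∈ Algebra.adjoin ℂ ((lam R u) '' R) :=
    Subalgebra.sub_mem _ (Subalgebra.mul_mem _ hφ hlam) (Subalgebra.mul_mem _ hlam hφ)
  have h0 : (φ * lam R u r - lam R u r * φ) (Pi.single 1 (1 : ℂ)) = 0 := by
    have hl1 := hk2b_len_gen h hr
    have e1 : lam R u r (Pi.single 1 (1 : ℂ)) = rho R u r (Pi.single 1 (1 : ℂ)) := by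
      rw [hk_lam_single h u hr hl1]
      have hl2 : len R (1 : W) < len R (1 * r) := by rw [one_mul]; rw [mul_one] at hl1; exact hl1
      rw [hk_rho_single h u hr hl2, mul_one, one_mul]
    rw [LinearMap.sub_apply, Module.End.mul_apply, Module.End.mul_apply, e1,
      ← Module.End.mul_apply, hk2b_adjoin_comm_rho h u hφ hr, Module.End.mul_apply, ← hz r hr,
      sub_self]
  have := hk_eval_inj h u _ hmem h0
  exact sub_eq_zero.mp this

end Cfsg.Agent.Hk
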