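import Mathlib
import Cfsg.Agent.Hk.Defs
import Cfsg.Agent.Hk.Defs2
import Cfsg.Agent.Hk.Ops

set_option autoImplicit false
set_option linter.unusedSectionVars false

/-!
S2319 swarm, abstract bridge (part (e) of P5): if a subalgebra `Alg` of `End V` has a basis
`A w` (`w : W`) satisfying the Iwahori relations with parameter `q`, then the centre of `Alg`
has the dimension of `Zsp R q`.
-/

namespace Cfsg.Agent.Hk

open Cfsg.Agent.Helper7.InvWords

variable {W : Type*} [Group W] {R : Set W}
variable {V : Type*} [AddCommGroup V] [Module ℂ V]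

/-- `A r * A w` in terms of the basis. -/
theorem hk5e_mul_left (h : Sys R) (A : W → Module.End ℂ V) (q : ℂ)
    (hup : ∀ r ∈ R, ∀ w, len R w < len R (r * w) → A r * A w = A (r * w))
    (hsq : ∀ r ∈ R, A r * A r = q • (1 : Module.End ℂ V) + (q - 1) • A r)
    {r : W} (hr : r ∈ R) (w : W) :
    A r * A w =
      if len R w < len R (r * w) then A (r * w) else q • A (r * w) + (q - 1) • A w := by
  split_ifs with hc
  · exact hup r hr w hc
  · have hrr : r * (r * w) = w := by rw [← mul_assoc, h.invol r hr, one_mul]
    have hlt : len R (r * w) < len R (r * (r * w)) := by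
      rw [hrr]
      rcases hk_len_left h hr w with h1 | h1 <;> omega
    have hw : A r * A (r * w) = A w := by
      rw [hup r hr (r * w) hlt, hrr]
    calc A r * A w = A r * (A r * A (r * w)) := by rw [hw]
      _ = (A r * A r) * A (r * w) := by rw [mul_assoc]
      _ = q • A (r * w) + (q - 1) • (A r * A (r * w)) := by
          rw [hsq r hr, add_mul, smul_mul_assoc, one_mul, smul_mul_assoc]
      _ = q • A (r * w) + (q - 1) • A w := by rw [hw]

/-- `A w * A r` in terms of the basis. -/
theorem hk5e_mul_right (h : Sys R) (A : W → Module.End ℂ V) (q : ℂ)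
    (hupR : ∀ r ∈ R, ∀ w, len R w < len R (w * r) → A w * A r = A (w * r))
    (hsq : ∀ r ∈ R, A r * A r = q • (1 : Module.End ℂ V) + (q - 1) • A r)
    {r : W} (hr : r ∈ R) (w : W) :
    A w * A r =
      if len R w < len R (w * r) then A (w * r) else q • A (w * r) + (q - 1) • A w := by
  split_ifs with hc
  · exact hupR r hr w hc
  · have hrr : (w * r) * r = w := by rw [mul_assoc, h.invol r hr, mul_one]
    have hlt : len R (w * r) < len R ((w * r) * r) := by
      rw [hrr]
      rcases hk_len_right h hr w with h1 | h1 <;> omega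
    have hw : A (w * r) * A r = A w := by
      rw [hupR r hr (w * r) hlt, hrr]
    calc A w * A r = (A (w * r) * A r) * A r := by rw [hw]
      _ = A (w * r) * (A r * A r) := by rw [mul_assoc]
      _ = q • A (w * r) + (q - 1) • (A (w * r) * A r) := by
          rw [hsq r hr, mul_add, mul_smul_comm, mul_one, mul_smul_comm]
      _ = q • A (w * r) + (q - 1) • A w := by rw [hw]

section fin

variable [Fintype W]

/-- The coordinate map `v ↦ ∑ v w • A w`. -/
noncomputable def hk5e_Theta (A : W → Module.End ℂ V) : (W → ℂ) →ₗ[ℂ] Module.End ℂ V :=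
  Fintype.linearCombination ℂ A

theorem hk5e_Theta_apply (A : W → Module.End ℂ V) (v : W → ℂ) :
    hk5e_Theta A v = ∑ w, v w • A w :=
  Fintype.linearCombination_apply ℂ A v

/-- Left multiplication by `A r` is `lam` in coordinates. -/
theorem hk5e_left (h : Sys R) (A : W → Module.End ℂ V) (q : ℂ)
    (hup : ∀ r ∈ R, ∀ w, len R w < len R (r * w) → A r * A w = A (r * w))
    (hsq : ∀ r ∈ R, A r * A r = q • (1 : Module.End ℂ V) + (q - 1) • A r)
    {r : W} (hr : r ∈ R) (v : W → ℂ) :
    A r * hk5e_Theta A v = hk5e_Theta A (lam R q r v) := by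
  rw [hk5e_Theta_apply, hk5e_Theta_apply, Finset.mul_sum]
  have hrr : ∀ w, r * (r * w) = w := fun w => by rw [← mul_assoc, h.invol r hr, one_mul]
  have h1 : ∀ w, A r * (v w • A w) =
      (if len R w < len R (r * w) then v w else q * v w) • A (r * w) +
      (if len R w < len R (r * w) then 0 else (q - 1) * v w) • A w := by
    intro w
    rw [mul_smul_comm, hk5e_mul_left h A q hup hsq hr w]
    split_ifs
    · rw [zero_smul, add_zero]
    · rw [smul_add, smul_smul, smul_smul, mul_comm (v w) q, mul_comm (v w) (q - 1)]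
  rw [Finset.sum_congr rfl (fun w _ => h1 w), Finset.sum_add_distrib]
  have h2 : ∑ w, (if len R w < len R (r * w) then v w else q * v w) • A (r * w) =
      ∑ x, (if len R (r * x) < len R x then v (r * x) else q * v (r * x)) • A x := by
    refine Fintype.sum_equiv (Equiv.mulLeft r) _ _ (fun w => ?_)
    simp only [Equiv.coe_mulLeft, hrr]
  rw [h2, ← Finset.sum_add_distrib]
  refine Finset.sum_congr rfl (fun x _ => ?_)
  rw [lam_apply, ← add_smul]
  congr 1
  rcases hk_len_left h hr x with hx | hx
  · rw [if_neg (by omega), if_pos (by omega), if_neg (by omega), add_zero]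
  · rw [if_pos (by omega), if_neg (by omega), if_pos (by omega), add_comm]

/-- Right multiplication by `A r` is `rho` in coordinates. -/
theorem hk5e_right (h : Sys R) (A : W → Module.End ℂ V) (q : ℂ)
    (hupR : ∀ r ∈ R, ∀ w, len R w < len R (w * r) → A w * A r = A (w * r))
    (hsq : ∀ r ∈ R, A r * A r = q • (1 : Module.End ℂ V) + (q - 1) • A r)
    {r : W} (hr : r ∈ R) (v : W → ℂ) :
    hk5e_Theta A v * A r = hk5e_Theta A (rho R q r v) := by
  rw [hk5e_Theta_apply, hk5e_Theta_apply, Finset.sum_mul]
  have hrr : ∀ w, (w * r) * r = w := fun w => by rw [mul_assoc, h.invol r hr, mul_one]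
  have h1 : ∀ w, (v w • A w) * A r =
      (if len R w < len R (w * r) then v w else q * v w) • A (w * r) +
      (if len R w < len R (w * r) then 0 else (q - 1) * v w) • A w := by
    intro w
    rw [smul_mul_assoc, hk5e_mul_right h A q hupR hsq hr w]
    split_ifs
    · rw [zero_smul, add_zero]
    · rw [smul_add, smul_smul, smul_smul, mul_comm (v w) q, mul_comm (v w) (q - 1)]
  rw [Finset.sum_congr rfl (fun w _ => h1 w), Finset.sum_add_distrib]
  have h2 : ∑ w, (if len R w < len R (w * r) then v w else q * v w) • A (w * r) =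
      ∑ x, (if len R (x * r) < len R x then v (x * r) else q * v (x * r)) • A x := by
    refine Fintype.sum_equiv (Equiv.mulRight r) _ _ (fun w => ?_)
    simp only [Equiv.coe_mulRight, hrr]
  rw [h2, ← Finset.sum_add_distrib]
  refine Finset.sum_congr rfl (fun x _ => ?_)
  rw [rho_apply, ← add_smul]
  congr 1
  rcases hk_len_right h hr x with hx | hx
  · rw [if_neg (by omega), if_pos (by omega), if_neg (by omega), add_zero]
  · rw [if_pos (by omega), if_neg (by omega), if_pos (by omega), add_comm]

end fin

/-- `A` of a reduced word is the product of the `A r`. -/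
theorem hk5e_A_prod (h : Sys R) (A : W → Module.End ℂ V) (hone : A 1 = 1)
    (hup : ∀ r ∈ R, ∀ w, len R w < len R (r * w) → A r * A w = A (r * w)) :
    ∀ l : List W, IsWord R l → Cfsg.Agent.Helper7.InvWords.IsReduced R l → A l.prod = (l.map A).prod := by
  intro l
  induction l with
  | nil =>
    intro _ _
    simp [hone]
  | cons r l ih =>
    intro hw hred
    have hred' : Cfsg.Agent.Helper7.InvWords.IsReduced R l := Cfsg.Agent.Helper7.InvWords.IsReduced.tail h.invol hw hred
    rw [isWord_cons] at hw
    have hlt : len R l.prod < len R (r * l.prod) := by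
      unfold Cfsg.Agent.Helper7.InvWords.IsReduced at hred hred'
      rw [List.prod_cons, List.length_cons] at hred
      omega
    rw [List.prod_cons, List.map_cons, List.prod_cons, ← ih hw.2 hred', hup r hw.1 _ hlt]

/-- Commuting with the `A r`, `r ∈ R`, implies commuting with every `A w`. -/
theorem hk5e_commute_all (h : Sys R) (A : W → Module.End ℂ V) (hone : A 1 = 1)
    (hup : ∀ r ∈ R, ∀ w, len R w < len R (r * w) → A r * A w = A (r * w))
    {T : Module.End ℂ V} (hT : ∀ r ∈ R, A r * T = T * A r) (w : W) : A w * T = T * A w := by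
  obtain ⟨hw, hprod, hlen⟩ := redWord_spec h w
  have hred : Cfsg.Agent.Helper7.InvWords.IsReduced R (redWord R w) := by
    unfold Cfsg.Agent.Helper7.InvWords.IsReduced
    rw [hprod, hlen]
  have hA := hk5e_A_prod h A hone hup (redWord R w) hw hred
  rw [hprod] at hA
  rw [hA]
  have : Commute T ((redWord R w).map A).prod := by
    apply Commute.list_prod_right
    intro x hx
    rw [List.mem_map] at hx
    obtain ⟨r, hr, rfl⟩ := hx
    exact (hT r (hw r hr)).symm
  exact this.eq.symm

section fin

variable [Fintype W]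

/-- The centre of `Alg` is the image of `Zsp R q` under the coordinate map. -/
theorem hk5e_center_iff (h : Sys R) (Alg : Subalgebra ℂ (Module.End ℂ V))
    (A : W → Module.End ℂ V) (q : ℂ) (hli : LinearIndependent ℂ A)
    (hspan : Submodule.span ℂ (Set.range A) = Subalgebra.toSubmodule Alg)
    (hone : A 1 = 1)
    (hup : ∀ r ∈ R, ∀ w, len R w < len R (r * w) → A r * A w = A (r * w))
    (hupR : ∀ r ∈ R, ∀ w, len R w < len R (w * r) → A w * A r = A (w * r))
    (hsq : ∀ r ∈ R, A r * A r = q • (1 : Module.End ℂ V) + (q - 1) • A r)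
    (T : Module.End ℂ V) :
    (T ∈ Alg ∧ ∀ S ∈ Alg, S * T = T * S) ↔ T ∈ Submodule.map (hk5e_Theta A) (Zsp R q) := by
  have hinj : Function.Injective (hk5e_Theta A) := hli.fintypeLinearCombination_injective
  have hrange : LinearMap.range (hk5e_Theta A) = Subalgebra.toSubmodule Alg := by
    rw [← hspan]
    exact Fintype.range_linearCombination ℂ A
  have hAmem : ∀ w, A w ∈ Alg := by
    intro w
    have : A w ∈ Submodule.span ℂ (Set.range A) := Submodule.subset_span ⟨w, rfl⟩
    rw [hspan] at this
    exact this
  constructor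
  · rintro ⟨hT, hc⟩
    have hT' : T ∈ LinearMap.range (hk5e_Theta A) := by
      rw [hrange]
      exact hT
    obtain ⟨v, rfl⟩ := hT'
    refine ⟨v, ?_, rfl⟩
    intro r hr
    apply hinj
    rw [← hk5e_left h A q hup hsq hr v, ← hk5e_right h A q hupR hsq hr v]
    exact hc (A r) (hAmem r)
  · rintro ⟨v, hv, rfl⟩
    have hmem : hk5e_Theta A v ∈ Alg := by
      have : hk5e_Theta A v ∈ LinearMap.range (hk5e_Theta A) := ⟨v, rfl⟩
      rw [hrange] at this
      exact this
    refine ⟨hmem, ?_⟩
    have hgen : ∀ r ∈ R, A r * hk5e_Theta A v = hk5e_Theta A v * A r := by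
      intro r hr
      rw [hk5e_left h A q hup hsq hr v, hk5e_right h A q hupR hsq hr v, hv r hr]
    have hall := hk5e_commute_all h A hone hup hgen
    have hsp : ∀ S ∈ Submodule.span ℂ (Set.range A),
        S * hk5e_Theta A v = hk5e_Theta A v * S := by
      intro S hS'
      induction hS' using Submodule.span_induction with
      | mem x hx =>
        obtain ⟨w, rfl⟩ := hx
        exact hall w
      | zero => rw [zero_mul, mul_zero]
      | add x y _ _ hx hy => rw [add_mul, mul_add, hx, hy]
      | smul c x _ hx => rw [smul_mul_assoc, mul_smul_comm, hx]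
    intro S hS
    apply hsp
    rw [hspan]
    exact hS

/-- MAIN OUTPUT of the bridge: the centre of the commutant has the dimension of `Zsp R q`. -/
theorem hk5e_finrank_commCenter {G : Type*} [Group G] (ρ : Representation ℂ G V) (h : Sys R)
    (A : W → Module.End ℂ V) (q : ℂ) (hli : LinearIndependent ℂ A)
    (hspan : Submodule.span ℂ (Set.range A) = Subalgebra.toSubmodule (commAlg ρ))
    (hone : A 1 = 1)
    (hup : ∀ r ∈ R, ∀ w, len R w < len R (r * w) → A r * A w = A (r * w))
    (hupR : ∀ r ∈ R, ∀ w, len R w < len R (w * r) → A w * A r = A (w * r))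
    (hsq : ∀ r ∈ R, A r * A r = q • (1 : Module.End ℂ V) + (q - 1) • A r) :
    Module.finrank ℂ (commCenter ρ) = Module.finrank ℂ (Zsp R q) := by
  have hinj : Function.Injective (hk5e_Theta A) := hli.fintypeLinearCombination_injective
  have heq : commCenter ρ = Submodule.map (hk5e_Theta A) (Zsp R q) := by
    ext T
    rw [mem_commCenter]
    exact hk5e_center_iff h (commAlg ρ) A q hli hspan hone hup hupR hsq T
  rw [heq]
  exact (Submodule.equivMapOfInjective (hk5e_Theta A) hinj (Zsp R q)).finrank_eq.symm

/-- The same for an arbitrary subalgebra, with the centre written as a subtype. -/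
theorem hk5e_finrank_center (h : Sys R) (Alg : Subalgebra ℂ (Module.End ℂ V))
    (A : W → Module.End ℂ V) (q : ℂ) (hli : LinearIndependent ℂ A)
    (hspan : Submodule.span ℂ (Set.range A) = Subalgebra.toSubmodule Alg)
    (hone : A 1 = 1)
    (hup : ∀ r ∈ R, ∀ w, len R w < len R (r * w) → A r * A w = A (r * w))
    (hupR : ∀ r ∈ R, ∀ w, len R w < len R (w * r) → A w * A r = A (w * r))
    (hsq : ∀ r ∈ R, A r * A r = q • (1 : Module.End ℂ V) + (q - 1) • A r)
    (C : Submodule ℂ (Module.End ℂ V))
    (hC : ∀ T, T ∈ C ↔ (T ∈ Alg ∧ ∀ S ∈ Alg, S * T = T * S)) :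
    Module.finrank ℂ C = Module.finrank ℂ (Zsp R q) := by
  have hinj : Function.Injective (hk5e_Theta A) := hli.fintypeLinearCombination_injective
  have heq : C = Submodule.map (hk5e_Theta A) (Zsp R q) := by
    ext T
    rw [hC]
    exact hk5e_center_iff h Alg A q hli hspan hone hup hupR hsq T
  rw [heq]
  exact (Submodule.equivMapOfInjective (hk5e_Theta A) hinj (Zsp R q)).finrank_eq.symm

/-- Variant of `hk5e_finrank_commCenter` with the hypotheses on the basis stated through a
coordinate map `θ v = ∑ w, v w • A w` (injective, with range the commutant). -/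
theorem hk5e_finrank_commCenter' {G : Type*} [Group G] (ρ : Representation ℂ G V) (h : Sys R)
    (A : W → Module.End ℂ V) (q : ℂ) (θ : (W → ℂ) →ₗ[ℂ] Module.End ℂ V)
    (hθ : ∀ v, θ v = ∑ w, v w • A w) (hinj : Function.Injective θ)
    (hrange : LinearMap.range θ = Subalgebra.toSubmodule (commAlg ρ))
    (hone : A 1 = 1)
    (hup : ∀ r ∈ R, ∀ w, len R w < len R (r * w) → A r * A w = A (r * w))
    (hupR : ∀ r ∈ R, ∀ w, len R w < len R (w * r) → A w * A r = A (w * r))
    (hsq : ∀ r ∈ R, A r * A r = q • (1 : Module.End ℂ V) + (q - 1) • A r) :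
    Module.finrank ℂ (commCenter ρ) = Module.finrank ℂ (Zsp R q) := by
  have hθeq : θ = Fintype.linearCombination ℂ A := by
    apply LinearMap.ext
    intro v
    rw [hθ, Fintype.linearCombination_apply]
  have hli : LinearIndependent ℂ A := by
    rw [linearIndependent_iff_injective_fintypeLinearCombination, ← hθeq]
    exact hinj
  have hspan : Submodule.span ℂ (Set.range A) = Subalgebra.toSubmodule (commAlg ρ) := by
    rw [← hrange, hθeq]
    exact (Fintype.range_linearCombination ℂ A).symm
  exact hk5e_finrank_commCenter ρ h A q hli hspan hone hup hupR hsq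

end fin

end Cfsg.Agent.Hk
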