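import Mathlib
import Cfsg.Agent.Hk.Ops
import Cfsg.Agent.Hk.AlgA

set_option autoImplicit false
set_option linter.unusedSectionVars false
set_option linter.unusedVariables false

/-!
S2319 project, package P3: the Casimir (Higman averaging) operator of the generic Hecke algebra.
* `hk_Cas_mem`   : `Cas R t` maps everything into the centre `Zsp R t`;
* `hk_Cas_eq_Lc` : on `Zsp R t` it agrees with `Lc R t`.
(The Hermitian form and the invertibility of `Lc` are in `Hk/Form.lean`.)
-/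

namespace Cfsg.Agent.Hk

open Cfsg.Agent.Helper7.InvWords

variable {W : Type*} [Group W] {R : Set W}

/-! ### Length facts -/

theorem hk3c_len_succ (h : Sys R) {r : W} (hr : r ∈ R) {w : W} (hl : len R w < len R (r * w)) :
    len R (r * w) = len R w + 1 := by
  rcases hk_len_left h hr w with h1 | h1
  · exact h1
  · omega

theorem hk3c_mul_cancel (h : Sys R) {r : W} (hr : r ∈ R) (w : W) : r * (r * w) = w := by
  rw [← mul_assoc, h.invol r hr, one_mul]

theorem hk3c_len_ne (h : Sys R) {r : W} (hr : r ∈ R) (w : W) : len R (r * w) ≠ len R w := by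
  rcases hk_len_left h hr w with h1 | h1 <;> omega

/-! ### The algebraic heart of the Casimir argument -/

theorem hk3c_pair_identity {A : Type*} [Ring A] [Algebra ℂ A] (u c : ℂ) (Λ P X : A)
    (hΛΛ : Λ * Λ = (u - 1) • Λ + u • (1 : A)) (hPP : P * P = (u - 1) • P + u • (1 : A))
    (hΛP : Λ * P = P * Λ) :
    Λ * ((u * c) • X) + Λ * (c • (Λ * P * X)) = P * ((u * c) • X) + P * (c • (Λ * P * X)) := by
  have e1 : Λ * (c • (Λ * P * X)) = c • (Λ * Λ * P * X) := by
    rw [mul_smul_comm]; simp only [mul_assoc]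
  have e2 : P * (c • (Λ * P * X)) = c • (Λ * (P * P) * X) := by
    rw [mul_smul_comm, ← mul_assoc, ← mul_assoc, ← hΛP]; simp only [mul_assoc]
  rw [e1, e2, hΛΛ, hPP]
  simp only [mul_smul_comm, smul_mul_assoc, add_mul, mul_add, one_mul, mul_one, smul_add,
    smul_smul]
  module

/-! ### Four facts on `Lop`, `Rop` (private copies, on top of `Hk/AlgA`) -/

theorem hk3c_Lop_comm_rho (h : Sys R) (u : ℂ) (w : W) {t : W} (ht : t ∈ R) :
    Lop R u w * rho R u t = rho R u t * Lop R u w :=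
  hk2a_Lw_comm_rho h u (redWord_spec h w).1 ht

theorem hk3c_lam_Lop_up [Finite W] (h : Sys R) (u : ℂ) {r : W} (hr : r ∈ R) {w : W}
    (hlt : len R w < len R (r * w)) : lam R u r * Lop R u w = Lop R u (r * w) := by
  obtain ⟨hw, hp, hlen⟩ := redWord_spec h w
  have hword : IsWord R (r :: redWord R w) := isWord_cons.mpr ⟨hr, hw⟩
  have hprod : (r :: redWord R w).prod = r * w := by rw [List.prod_cons, hp]
  have hred : Cfsg.Agent.Helper7.InvWords.IsReduced R (r :: redWord R w) := by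
    unfold Cfsg.Agent.Helper7.InvWords.IsReduced
    rw [hprod, List.length_cons, hlen, hk3c_len_succ h hr hlt]
  have e := hk_Lw_eq_Lop h u hword hred
  rw [hprod, hk2a_Lw_cons] at e
  exact e

theorem hk3c_rho_Rop_up [Finite W] (h : Sys R) (u : ℂ) {t : W} (ht : t ∈ R) {w : W}
    (hlt : len R w < len R (w * t)) : rho R u t * Rop R u w = Rop R u (w * t) := by
  obtain ⟨hw, hp, hlen⟩ := redWord_spec h w
  have hword : IsWord R (redWord R w ++ [t]) := by
    rw [isWord_append]
    exact ⟨hw, isWord_cons.mpr ⟨ht, isWord_nil R⟩⟩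
  have hprod : (redWord R w ++ [t]).prod = w * t := by
    rw [List.prod_append, hp, List.prod_cons, List.prod_nil, mul_one]
  have hsucc : len R (w * t) = len R w + 1 := by
    rcases hk_len_right h ht w with h1 | h1
    · exact h1
    · omega
  have hred : Cfsg.Agent.Helper7.InvWords.IsReduced R (redWord R w ++ [t]) := by
    unfold Cfsg.Agent.Helper7.InvWords.IsReduced
    rw [hprod, List.length_append, List.length_singleton, hlen, hsucc]
  have e := hk_Rw_eq_Rop h u hword hred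
  rw [hprod, hk2a_Rw_concat] at e
  exact e

theorem hk3c_Lw_eq_Rw_of_mem (h : Sys R) (u : ℂ) {v : W → ℂ} (hv : v ∈ Zsp R u) :
    ∀ l : List W, IsWord R l → Lw R u l v = Rw R u l v := by
  intro l
  induction l with
  | nil =>
    intro _
    rw [hk2a_Lw_nil, hk2a_Rw_nil]
  | cons r l ih =>
    intro hl
    rw [isWord_cons] at hl
    rw [hk2a_Lw_cons, hk2a_Rw_cons, Module.End.mul_apply, ih hl.2, ← Module.End.mul_apply,
      ← hk2a_Rw_comm_lam h u hl.2 hl.1, Module.End.mul_apply, hv r hl.1, ← Module.End.mul_apply]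

theorem hk3c_Lop_eq_Rop_of_mem (h : Sys R) (u : ℂ) {v : W → ℂ} (hv : v ∈ Zsp R u) (w : W) :
    Lop R u w v = Rop R u w v :=
  hk3c_Lw_eq_Rw_of_mem h u hv _ (redWord_spec h w).1

section fin

variable [Fintype W]

/-- The term of `w` in the Casimir operator. -/
noncomputable def hk3c_term (R : Set W) (t : ℝ) (w : W) : Module.End ℂ (W → ℂ) :=
  (((t ^ len R w : ℝ) : ℂ)⁻¹) • (Lop R (t : ℂ) w * Rop R (t : ℂ) w⁻¹)

theorem hk3c_Cas_eq_sum (t : ℝ) : Cas R t = ∑ w : W, hk3c_term R t w := rfl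

theorem hk3c_term_simple_mul (h : Sys R) {t : ℝ} (ht : 0 < t) {r : W} (hr : r ∈ R) (w : W)
    (hl : len R w < len R (r * w)) :
    hk3c_term R t w = ((t : ℂ) * (((t ^ (len R w + 1) : ℝ) : ℂ)⁻¹)) •
        (Lop R (t : ℂ) w * Rop R (t : ℂ) w⁻¹) ∧
    hk3c_term R t (r * w) = (((t ^ (len R w + 1) : ℝ) : ℂ)⁻¹) •
      (lam R (t : ℂ) r * rho R (t : ℂ) r * (Lop R (t : ℂ) w * Rop R (t : ℂ) w⁻¹)) := by
  have ht0 : (t : ℂ) ≠ 0 := by exact_mod_cast ht.ne'
  constructor
  · unfold hk3c_term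
    congr 1
    push_cast
    rw [pow_succ, mul_inv, mul_comm (t : ℂ), mul_assoc, inv_mul_cancel₀ ht0, mul_one]
  · unfold hk3c_term
    rw [hk3c_len_succ h hr hl, ← hk3c_lam_Lop_up h (t : ℂ) hr hl]
    have hinv : (r * w)⁻¹ = w⁻¹ * r := by
      rw [mul_inv_rev, h.invol.inv_eq hr]
    have hl' : len R w⁻¹ < len R (w⁻¹ * r) := by
      rw [← hinv, len_inv h.invol (h.gen _), len_inv h.invol (h.gen _)]
      exact hl
    rw [hinv, ← hk3c_rho_Rop_up h (t : ℂ) hr hl']
    congr 1
    rw [mul_assoc, mul_assoc, ← mul_assoc (Lop R (t : ℂ) w), hk3c_Lop_comm_rho h (t : ℂ) w hr,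
      mul_assoc]

theorem hk3c_pair (h : Sys R) {t : ℝ} (ht : 0 < t) {r : W} (hr : r ∈ R) (w : W)
    (hl : len R w < len R (r * w)) :
    lam R (t : ℂ) r * hk3c_term R t w + lam R (t : ℂ) r * hk3c_term R t (r * w) =
      rho R (t : ℂ) r * hk3c_term R t w + rho R (t : ℂ) r * hk3c_term R t (r * w) := by
  obtain ⟨e1, e2⟩ := hk3c_term_simple_mul h ht hr w hl
  rw [e1, e2]
  exact hk3c_pair_identity (t : ℂ) _ _ _ _ (hk_lam_sq h (t : ℂ) hr) (hk_rho_sq h (t : ℂ) hr)
    (hk_lam_rho_comm h (t : ℂ) hr hr)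

/-- The Casimir operator intertwines left and right multiplication by a generator. -/
theorem hk3c_lam_Cas (h : Sys R) {t : ℝ} (ht : 0 < t) {r : W} (hr : r ∈ R) :
    lam R (t : ℂ) r * Cas R t = rho R (t : ℂ) r * Cas R t := by
  rw [← sub_eq_zero, hk3c_Cas_eq_sum, Finset.mul_sum, Finset.mul_sum, ← Finset.sum_sub_distrib]
  apply Finset.sum_ninvolution (fun w => r * w)
  · intro w
    rcases lt_or_gt_of_ne (hk3c_len_ne h hr w) with hl | hl
    · have hp := hk3c_pair h ht hr (r * w) (by rw [hk3c_mul_cancel h hr]; exact hl)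
      rw [hk3c_mul_cancel h hr] at hp
      rw [sub_add_sub_comm, sub_eq_zero, add_comm, hp, add_comm]
    · have hp := hk3c_pair h ht hr w hl
      rw [sub_add_sub_comm, sub_eq_zero, hp]
  · intro w _ hw
    have := hk3c_len_ne h hr w
    rw [hw] at this
    exact this rfl
  · intro w
    exact Finset.mem_univ _
  · intro w
    exact hk3c_mul_cancel h hr w

/-- **P3 (a)**: the Casimir operator maps into the centre. -/
theorem hk_Cas_mem (h : Sys R) {t : ℝ} (ht : 0 < t) (v : W → ℂ) :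
    Cas R t v ∈ Zsp R (t : ℂ) := by
  intro r hr
  have := congrArg (fun φ : Module.End ℂ (W → ℂ) => φ v) (hk3c_lam_Cas h ht hr)
  simpa only [Module.End.mul_apply] using this

/-- **P3 (b)**: on the centre the Casimir operator is `Lc`. -/
theorem hk_Cas_eq_Lc (h : Sys R) {t : ℝ} (ht : 0 < t) {v : W → ℂ} (hv : v ∈ Zsp R (t : ℂ)) :
    Cas R t v = Lc R t v := by
  unfold Cas Lc
  rw [LinearMap.sum_apply, LinearMap.sum_apply]
  apply Finset.sum_congr rfl
  intro w _
  rw [LinearMap.smul_apply, LinearMap.smul_apply, Module.End.mul_apply, Module.End.mul_apply,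
    hk3c_Lop_eq_Rop_of_mem h (t : ℂ) hv w⁻¹]

end fin

end Cfsg.Agent.Hk
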