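import Mathlib
import Cfsg.Agent.Helper7.ChevBN

set_option autoImplicit false
set_option linter.unusedSectionVars false
set_option linter.unusedVariables false

/-!
S2319, package P7 (part A): in a Chevalley group the left cosets of `B` inside `B n_p B` are the
`x_p(t) n_p⁻¹ B`, `t ∈ F`, without repetition.  (GL-level statements.)
-/

namespace Cfsg.Agent.Hk

open Cfsg Cfsg.Lie Matrix Cfsg.Agent.Helper7.Chev
open scoped Pointwise

variable {D : ChevalleyDatum} {F : Type*} [Field F]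

section

variable (hG : Good2 D) (hT : T0 D) (h3 : (tabOf D).T3) (h4 : (tabOf D).T4 60) (h5 : (tabOf D).T5)
  (h6 : (tabOf D).T6) (h8 : (tabOf D).T8) (h9 : (tabOf D).T9)

include hG hT h3 h4 h5 h6 in
/-- every coset `b n_p⁻¹ B` is some `x_p(t) n_p⁻¹ B` -/
theorem hk7_coset_surj {i : ℕ} (hi : i < D.rank) {b : GL D.Idx F} (hb : b ∈ D.borelSubgroup F) :
    ∃ t : F, (xGL hG.toGood1 (hG.toGood1.simple_lt hi) t *
        (nGL hG.toGood1 (hG.toGood1.simple_lt hi))⁻¹)⁻¹ *
      (b * (nGL hG.toGood1 (hG.toGood1.simple_lt hi))⁻¹) ∈ D.borelSubgroup F := by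
  have hG1 := hG.toGood1
  have hp := hG1.simple_lt hi
  set ni : GL D.Idx F := nGL hG1 hp with hni
  have hUB : D.posUnipotent F ≤ D.borelSubgroup F := le_sup_left
  have hHB : D.diagonalSubgroup F ≤ D.borelSubgroup F := le_sup_right
  have hniN : ni ∈ D.monomialSubgroup F := nGL_mem_monomial hG hp
  have hnNorm := monomialSubgroup_le_normalizer hG hniN
  have hmul := Subgroup.coe_mul_of_right_le_normalizer_left (D.posUnipotent F)
    (D.diagonalSubgroup F) (diagonalSubgroup_le_normalizer_pos hG)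
  obtain ⟨u, hu, hb', hhb, rfl⟩ : b ∈ (D.posUnipotent F : Set (GL D.Idx F)) *
      (D.diagonalSubgroup F : Set (GL D.Idx F)) := by
    rw [← hmul]; exact hb
  have hXn : D.rootSubgroup F (D.simple i) ≤
      Subgroup.normalizer (Subgroup.closure (upGen D F (D.simple i)) : Set (GL D.Idx F)) :=
    le_trans le_sup_left (rootSubgroup_le_normalizer_up hG hT h3 h4 h5 hi)
  have hmul2 := Subgroup.coe_mul_of_right_le_normalizer_left
    (Subgroup.closure (upGen D F (D.simple i))) (D.rootSubgroup F (D.simple i)) hXn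
  have hu' : u ∈ (Subgroup.closure (upGen D F (D.simple i)) : Set (GL D.Idx F)) *
      (D.rootSubgroup F (D.simple i) : Set (GL D.Idx F)) := by
    rw [← hmul2, up_sup_rootSubgroup hG hT h5 hi]; exact hu
  obtain ⟨u', hu', x, hx, rfl⟩ := hu'
  have hxN := hXn hx
  obtain ⟨t, rfl⟩ := mem_rootSubgroup hG1 hp hx
  have hUpU : Subgroup.closure (upGen D F (D.simple i)) ≤ D.posUnipotent F := by
    rw [← up_sup_rootSubgroup hG hT h5 hi]; exact le_sup_left
  refine ⟨t, ?_⟩
  -- `x⁻¹ u' x ∈ U_p`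
  have c0 : (xGL hG1 hp t)⁻¹ * u' * xGL hG1 hp t ∈ Subgroup.closure (upGen D F (D.simple i)) := by
    have hinv : (xGL hG1 hp t)⁻¹ ∈
        Subgroup.normalizer (Subgroup.closure (upGen D F (D.simple i)) : Set (GL D.Idx F)) :=
      inv_mem hxN
    have := (Subgroup.mem_set_normalizer_iff.mp hinv u').mp hu'
    rwa [inv_inv] at this
  have c1 : ni * ((xGL hG1 hp t)⁻¹ * u' * xGL hG1 hp t) * ni⁻¹ ∈ D.borelSubgroup F := by
    apply hUB; apply hUpU
    exact (Subgroup.mem_set_normalizer_iff.mp (nGL_mem_normalizer_up hG hT h6 hi) _).mp c0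
  have c2 : ni * hb' * ni⁻¹ ∈ D.borelSubgroup F := hHB (conj_mem_diagonal hnNorm hhb)
  have e : (xGL hG1 hp t * ni⁻¹)⁻¹ * (u' * xGL hG1 hp t * hb' * ni⁻¹) =
      (ni * ((xGL hG1 hp t)⁻¹ * u' * xGL hG1 hp t) * ni⁻¹) * (ni * hb' * ni⁻¹) := by group
  rw [e]
  exact mul_mem c1 c2

include hG hT h8 in
/-- the cosets `x_p(t) n_p⁻¹ B` are distinct -/
theorem hk7_coset_inj {i : ℕ} (hi : i < D.rank) {t t' : F}
    (h : (xGL hG.toGood1 (hG.toGood1.simple_lt hi) t *
        (nGL hG.toGood1 (hG.toGood1.simple_lt hi))⁻¹)⁻¹ *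
      (xGL hG.toGood1 (hG.toGood1.simple_lt hi) t' *
        (nGL hG.toGood1 (hG.toGood1.simple_lt hi))⁻¹) ∈ D.borelSubgroup F) : t = t' := by
  have hG1 := hG.toGood1
  have hp := hG1.simple_lt hi
  have hw : ∀ j ∈ [i], j < D.rank := by
    intro j hj
    rw [List.mem_singleton] at hj
    rw [hj]; exact hi
  have c := nWordGL_conj (F := F) hG hw hp (-t + t')
  have e : (nWordGL hG [i] : GL D.Idx F) = nGL hG1 hp := by
    rw [nWordGL_cons hG hi, nWordGL_nil, mul_one]
  rw [e] at c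
  have e2 : (xGL hG1 hp t * (nGL hG1 hp)⁻¹)⁻¹ * (xGL hG1 hp t' * (nGL hG1 hp)⁻¹) =
      nGL hG1 hp * xGL hG1 hp (-t + t') * (nGL hG1 hp)⁻¹ := by
    rw [← xGL_mul hG1 hp, ← xGL_inv hG1 hp]
    group
  rw [e2, c] at h
  have hr := reflWord_lt hG hw hp
  have hneg : (tabOf D).reflWord [i] (D.simple i) < D.nroots / 2 := by
    change (tabOf D).refl (D.simple i) (D.simple i) < D.nroots / 2
    rw [refl_self]
    exact neg_neg_of_pos hG hT hp (simple_pos hG1 hT hi)
  have hV : xGL hG1 hr ((((tabOf D).etaWord [i] (D.simple i) : ℤ) : F) * (-t + t')) ∈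
      D.negUnipotent F :=
    Subgroup.subset_closure ⟨_, _, (isNegRoot_iff hT hr).mpr hneg, xGL_coe hG1 hr _⟩
  have hmem : xGL hG1 hr ((((tabOf D).etaWord [i] (D.simple i) : ℤ) : F) * (-t + t')) ∈
      D.borelSubgroup F ⊓ D.negUnipotent F := ⟨h, hV⟩
  rw [borel_inf_negUnipotent hG hT, Subgroup.mem_bot] at hmem
  by_contra hne
  refine xGL_ne_one hG hT h8 hr ?_ hmem
  apply mul_ne_zero (etaWord_cast_ne_zero hG hw hp)
  intro h0
  apply hne
  have : t' = t := by linear_combination h0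
  exact this.symm

end

end Cfsg.Agent.Hk
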