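import Mathlib
import Cfsg.Agent.Hk.ChevA
import Cfsg.Agent.Helper7.BNBruhat
import Cfsg.Agent.Helper7.ChevPerfect

set_option autoImplicit false
set_option linter.unusedSectionVars false
set_option linter.unusedVariables false

/-!
S2319, package P7 (part B): the parameter of the `(B,N)`-pair of a Chevalley group over a finite
field is `|F|`, and `W P` has as many conjugacy classes as any group onto which `N` maps with
kernel `H`.
-/

namespace Cfsg.Agent.Hk

open Cfsg Cfsg.Lie Matrix Cfsg.Agent.Helper7.Chev Cfsg.Agent.Helper7.BN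
open scoped Pointwise

variable {D : ChevalleyDatum} {F : Type*} [Field F]

/-- conjugacy classes are transported by group isomorphisms -/
theorem hk7_card_conjClasses_congr {A B : Type*} [Group A] [Group B] (e : A ≃* B) :
    Nat.card (ConjClasses A) = Nat.card (ConjClasses B) := by
  refine Nat.card_congr
    { toFun := ConjClasses.map e.toMonoidHom
      invFun := ConjClasses.map e.symm.toMonoidHom
      left_inv := ?_
      right_inv := ?_ }
  · intro c
    induction c using Quotient.inductionOn with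
    | _ a =>
      change ConjClasses.mk (e.symm (e a)) = ConjClasses.mk a
      rw [e.symm_apply_apply]
  · intro c
    induction c using Quotient.inductionOn with
    | _ a =>
      change ConjClasses.mk (e (e.symm a)) = ConjClasses.mk a
      rw [e.apply_symm_apply]

section

variable (hG : Good2 D) (hT : T0 D) (h3 : (tabOf D).T3) (h4 : (tabOf D).T4 60) (h5 : (tabOf D).T5)
  (h6 : (tabOf D).T6) (h8 : (tabOf D).T8) (h9 : (tabOf D).T9)

include hG hT h3 h4 h5 h6 h8 in
/-- the number of cosets `yB` inside `B n_p B` is `|F|` -/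
theorem hk7_card_cosets [Fintype F] (P : Cfsg.BNPair ↥(D.group F))
    (hB : P.B = (D.borelSubgroup F).subgroupOf (D.group F))
    (hS : P.S = {n : ↥(D.group F) | ∃ i < D.rank,
      ((n : GL D.Idx F) : Matrix D.Idx D.Idx F) = D.nMat F (D.simple i) 1})
    {r : W P} (hr : r ∈ RS P) :
    Nat.card {c : ↥(D.group F) ⧸ P.B //
      ∃ y ∈ CW P r, (QuotientGroup.mk y : ↥(D.group F) ⧸ P.B) = c} = Fintype.card F := by
  have hG1 := hG.toGood1
  obtain ⟨n, hn, rfl⟩ := hr
  rw [CW_proj]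
  have hn' : (n : ↥(D.group F)) ∈ P.S := hn
  have hn2 := hn'
  rw [hS] at hn2
  obtain ⟨i, hi, hmat⟩ := hn2
  have hp := hG1.simple_lt hi
  set s : ↥(D.group F) := (n : ↥(D.group F)) with hs_def
  have hs : (s : GL D.Idx F) = nGL hG1 hp := Units.ext (hmat.trans (nGL_coe hG1 hp).symm)
  have hUB : D.posUnipotent F ≤ D.borelSubgroup F := le_sup_left
  have memB : ∀ g : ↥(D.group F), g ∈ P.B ↔ (g : GL D.Idx F) ∈ D.borelSubgroup F := by
    intro g
    rw [hB]
    exact Subgroup.mem_subgroupOf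
  let X : F → ↥(D.group F) := fun t => ⟨xGL hG1 hp t, xGL_mem_group hG hp t⟩
  have hXB : ∀ t, X t ∈ P.B := by
    intro t
    rw [memB]
    exact hUB (Subgroup.subset_closure
      ⟨_, t, (isPosRoot_iff hT hp).mpr (simple_pos hG1 hT hi), xGL_coe hG1 hp t⟩)
  have hssB : (s * s)⁻¹ ∈ P.B := P.B.inv_mem (P.sq_mem s hn')
  have hmemC : ∀ t, X t * s⁻¹ ∈ C P s := by
    intro t
    rw [mem_C]
    exact ⟨X t, hXB t, (s * s)⁻¹, hssB, by group⟩
  have coeX : ∀ t t' : F, (((X t * s⁻¹)⁻¹ * (X t' * s⁻¹) : ↥(D.group F)) : GL D.Idx F) =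
      (xGL hG1 hp t * (nGL hG1 hp)⁻¹)⁻¹ * (xGL hG1 hp t' * (nGL hG1 hp)⁻¹) := by
    intro t t'
    rw [Subgroup.coe_mul, Subgroup.coe_inv, Subgroup.coe_mul, Subgroup.coe_mul, Subgroup.coe_inv, hs]
  let f : F → {c : ↥(D.group F) ⧸ P.B //
      ∃ y ∈ C P s, (QuotientGroup.mk y : ↥(D.group F) ⧸ P.B) = c} :=
    fun t => ⟨QuotientGroup.mk (X t * s⁻¹), X t * s⁻¹, hmemC t, rfl⟩
  have hinj : Function.Injective f := by
    intro t t' htt
    have h1 : (QuotientGroup.mk (X t * s⁻¹) : ↥(D.group F) ⧸ P.B) = QuotientGroup.mk (X t' * s⁻¹) :=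
      congrArg Subtype.val htt
    rw [QuotientGroup.eq, memB, coeX] at h1
    exact hk7_coset_inj hG hT h8 hi h1
  have hsurj : Function.Surjective f := by
    rintro ⟨c, y, hy, rfl⟩
    rw [mem_C] at hy
    obtain ⟨b, hb, b', hb', rfl⟩ := hy
    obtain ⟨t, ht⟩ := hk7_coset_surj hG hT h3 h4 h5 h6 hi ((memB b).mp hb)
    refine ⟨t, ?_⟩
    apply Subtype.ext
    change (QuotientGroup.mk (X t * s⁻¹) : ↥(D.group F) ⧸ P.B) = QuotientGroup.mk (b * s * b')
    rw [QuotientGroup.eq]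
    have e : (X t * s⁻¹)⁻¹ * (b * s * b') = ((X t * s⁻¹)⁻¹ * (b * s⁻¹)) * ((s * s) * b') := by group
    rw [e]
    refine P.B.mul_mem ?_ (P.B.mul_mem (P.sq_mem s hn') hb')
    rw [memB]
    have e2 : (((X t * s⁻¹)⁻¹ * (b * s⁻¹) : ↥(D.group F)) : GL D.Idx F) =
        (xGL hG1 hp t * (nGL hG1 hp)⁻¹)⁻¹ * ((b : GL D.Idx F) * (nGL hG1 hp)⁻¹) := by
      rw [Subgroup.coe_mul, Subgroup.coe_inv, Subgroup.coe_mul, Subgroup.coe_mul, Subgroup.coe_inv, hs]
    rw [e2]
    exact ht
  rw [← Nat.card_eq_fintype_card]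
  exact (Nat.card_congr (Equiv.ofBijective f ⟨hinj, hsurj⟩)).symm

include hG hT h6 h8 h9 in
/-- `W P ≅ N / H`, hence `W P` is isomorphic to any group onto which `N` maps with kernel `H` -/
theorem hk7_conj_card (P : Cfsg.BNPair ↥(D.group F))
    (hB : P.B = (D.borelSubgroup F).subgroupOf (D.group F))
    (hN : P.N = (D.monomialSubgroup F).subgroupOf (D.group F))
    {M : Type*} [Group M] (φ : ↥(D.monomialSubgroup F) →* M) (hφ : Function.Surjective φ)
    (hker : φ.ker = (D.diagonalSubgroup F).subgroupOf (D.monomialSubgroup F)) :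
    Nat.card (ConjClasses (W P)) = Nat.card (ConjClasses M) := by
  have hG1 := hG.toGood1
  have hNG : D.monomialSubgroup F ≤ D.group F := monomialSubgroup_le_group hG1
  have hBNH := borel_inf_monomial (F := F) hG hT h6 h8 h9
  have memN : ∀ g : ↥(D.group F), g ∈ P.N ↔ (g : GL D.Idx F) ∈ D.monomialSubgroup F := by
    intro g
    rw [hN]
    exact Subgroup.mem_subgroupOf
  have memB : ∀ g : ↥(D.group F), g ∈ P.B ↔ (g : GL D.Idx F) ∈ D.borelSubgroup F := by
    intro g
    rw [hB]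
    exact Subgroup.mem_subgroupOf
  let j : ↥P.N →* ↥(D.monomialSubgroup F) :=
    { toFun := fun n => ⟨((n : ↥(D.group F)) : GL D.Idx F), (memN _).mp n.2⟩
      map_one' := rfl
      map_mul' := fun a b => rfl }
  let ψ : ↥P.N →* M := φ.comp j
  have hψ : Function.Surjective ψ := by
    intro m
    obtain ⟨x, rfl⟩ := hφ m
    refine ⟨⟨⟨(x : GL D.Idx F), hNG x.2⟩, (memN _).mpr x.2⟩, ?_⟩
    change φ (j _) = φ x
    congr 1
  have hkerψ : TN P = ψ.ker := by
    ext n
    rw [MonoidHom.mem_ker]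
    change (n : ↥(D.group F)) ∈ P.B ⊓ P.N ↔ φ (j n) = 1
    rw [← MonoidHom.mem_ker, hker, Subgroup.mem_subgroupOf, Subgroup.mem_inf]
    change _ ↔ ((n : ↥(D.group F)) : GL D.Idx F) ∈ D.diagonalSubgroup F
    rw [← hBNH, Subgroup.mem_inf, memB, memN]
  have e1 : W P ≃* (↥P.N ⧸ ψ.ker) := QuotientGroup.quotientMulEquivOfEq hkerψ
  have e2 : (↥P.N ⧸ ψ.ker) ≃* M := QuotientGroup.quotientKerEquivOfSurjective ψ hψ
  exact hk7_card_conjClasses_congr (e1.trans e2)

end

end Cfsg.Agent.Hk
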