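import Mathlib
import Cfsg.Agent.Hk.ChevB
import Cfsg.Agent.S1039
import Cfsg.Agent.Helper7.ChevGood3
import Cfsg.Agent.Helper7.ChevT5
import Cfsg.Agent.Helper7.ChevT6
import Cfsg.Agent.Helper7.ChevT7
import Cfsg.Agent.Helper7.ChevT9

set_option autoImplicit false

/-!
S2319, package P7 (part C): the seven Chevalley data.
-/

namespace Cfsg.Agent.Hk

open Cfsg Cfsg.Lie Cfsg.Agent.Helper7.BN

/-- P7: for the seven data the Chevalley group over a finite field has a `(B,N)`-pair with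
`B = UH`, all parameters equal to `|F|`, and Weyl group with as many classes as the Coxeter group
of the type. -/
theorem hk_chev {F : Type*} [Field F] [Fintype F]
    (dw : Cfsg.Lie.ChevalleyDatum × (Σ n : ℕ, CoxeterMatrix (Fin n)))
    (hdw : dw ∈ [(Cfsg.Lie.chevG2, ⟨2, CoxeterMatrix.G₂⟩), (Cfsg.Lie.chevB2, ⟨2, CoxeterMatrix.B 2⟩),
      (Cfsg.Lie.chevD4, ⟨4, Cfsg.Lie.coxeterD4⟩), (Cfsg.Lie.chevF4, ⟨4, CoxeterMatrix.F₄⟩),
      (Cfsg.Lie.chevE6, ⟨6, CoxeterMatrix.E₆⟩), (Cfsg.Lie.chevE7, ⟨7, CoxeterMatrix.E₇⟩),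
      (Cfsg.Lie.chevE8, ⟨8, CoxeterMatrix.E₈⟩)]) :
    ∃ P : Cfsg.BNPair ↥(dw.1.group F),
      P.B = (dw.1.borelSubgroup F).subgroupOf (dw.1.group F) ∧
      (∀ r ∈ RS P, Nat.card {c : ↥(dw.1.group F) ⧸ P.B //
        ∃ y ∈ CW P r, (QuotientGroup.mk y : ↥(dw.1.group F) ⧸ P.B) = c} = Fintype.card F) ∧
      Nat.card (ConjClasses (W P)) = Nat.card (ConjClasses dw.2.2.Group) := by
  have hD : dw.1 ∈ [Cfsg.Lie.chevG2, Cfsg.Lie.chevB2, Cfsg.Lie.chevD4, Cfsg.Lie.chevF4,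
      Cfsg.Lie.chevE6, Cfsg.Lie.chevE7, Cfsg.Lie.chevE8] := by
    simp only [List.mem_cons, List.not_mem_nil, or_false] at hdw ⊢
    rcases hdw with rfl | rfl | rfl | rfl | rfl | rfl | rfl <;> simp
  obtain ⟨φ, hφ, hker, -⟩ := Cfsg.Agent.S1039.result (F := F) dw hdw
  have hG := Cfsg.Agent.Helper7.Chev.good3_of_mem dw.1 hD
  have hT := Cfsg.Agent.Helper7.Chev.T0_of_mem dw.1 hD
  have h5 := Cfsg.Agent.Helper7.Chev.T5_of_mem dw.1 hD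
  have h6 := Cfsg.Agent.Helper7.Chev.T6_of_mem dw.1 hD
  have h8 := Cfsg.Agent.Helper7.Chev.T8_of_mem dw.1 hD
  have h9 := Cfsg.Agent.Helper7.Chev.T9_of_mem dw.1 hD
  obtain ⟨P, hB, hN, hS⟩ :=
    Cfsg.Agent.Helper7.Chev.exists_bnPair (F := F) hG.toGood2 hT hG.t3 hG.t4 h5 h6 h8 h9
  refine ⟨P, hB, ?_, ?_⟩
  · intro r hr
    exact hk7_card_cosets hG.toGood2 hT hG.t3 hG.t4 h5 h6 h8 P hB hS hr
  · exact hk7_conj_card hG.toGood2 hT h6 h8 h9 P hB hN φ hφ hker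

end Cfsg.Agent.Hk
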