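import Mathlib
import Cfsg.Prelude.Def_Characters
import Cfsg.Prelude.Def_Perm
import Cfsg.Prelude.Def_ParabolicCharacters
import Cfsg.Agent.Hk.Defs2
import Cfsg.Agent.Helper6.ConstCount

/-!
# S2319 swarm, package P6: counting irreducible constituents

The number of irreducible constituents of the character of a finite-dimensional complex
representation of a finite group is the dimension of the centre of its commutant; the character
of the permutation representation on the cosets of `H` is the fixed point character.
-/

set_option autoImplicit false
set_option linter.style.haveILetI false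

namespace Cfsg.Agent.Hk

open Module Cfsg.Agent.Helper6 Cfsg.Agent.Helper6.ConstCount

theorem hk_card_constituents {G : Type*} [Group G] [Finite G] {V : Type*} [AddCommGroup V]
    [Module ℂ V] [FiniteDimensional ℂ V] (ρ : Representation ℂ G V) :
    Nat.card {χ : Cfsg.IrrCharacter G //
      ∃ φ : G → ℂ, Cfsg.IsCharacter G φ ∧ ρ.character = (χ : G → ℂ) + φ} =
      Module.finrank ℂ (commCenter ρ) := by
  haveI : Fintype G := Fintype.ofFinite G
  rw [h6cc_finrank_commCenter ρ]
  exact Nat.card_congr (Equiv.subtypeEquivRight (fun χ => h6cc_constituent_iff ρ χ))

theorem hk_permRep_character {G : Type*} [Group G] [Finite G] (H : Subgroup G) :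
    (Cfsg.permRep ℂ G (G ⧸ H)).character = Cfsg.fixedPointCharacter H := by
  haveI : Fintype (G ⧸ H) := Fintype.ofFinite _
  funext g
  rw [Cfsg.Agent.Helper2.CommEnd.permRep_character]
  rfl

end Cfsg.Agent.Hk
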