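import Mathlib
import Cfsg.Agent.Hk.Defs
import Cfsg.Agent.Helper8.HeckeContC
import Cfsg.Agent.Helper8.HeckeOne

set_option autoImplicit false
set_option linter.unusedSectionVars false

/-!
S2319 swarm, package P4: the dimension of the "centre" `Zsp R t` of the generic Iwahori–Hecke
operators does not depend on the real parameter `t > 0`, and equals the number of conjugacy
classes of `W` (value at `t = 1`).
-/

namespace Cfsg.Agent.Hk

open Cfsg.Agent.Helper7.InvWords

variable {W : Type*} [Group W] {R : Set W}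

section mat

variable [Fintype W] [DecidableEq W]

/-- The matrix of an endomorphism of `W → ℂ`. -/
noncomputable def hk4_mat : Module.End ℂ (W → ℂ) ≃ₐ[ℂ] Matrix W W ℂ :=
  LinearMap.toMatrixAlgEquiv'

theorem hk4_mat_apply (f : Module.End ℂ (W → ℂ)) (i j : W) :
    hk4_mat f i j = f (Pi.single j 1) i :=
  LinearMap.toMatrixAlgEquiv'_apply f i j

theorem hk4_mat_mulVec (f : Module.End ℂ (W → ℂ)) (v : W → ℂ) :
    (hk4_mat f).mulVec v = f v :=
  LinearMap.toMatrix'_mulVec f v

theorem hk4_cont_lam (R : Set W) (r : W) :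
    Continuous (fun t : ℝ => hk4_mat (lam R (t : ℂ) r)) := by
  refine continuous_matrix (fun i j => ?_)
  simp only [hk4_mat_apply, lam_apply]
  by_cases hc : len R (r * i) < len R i
  · simp only [if_pos hc]
    fun_prop
  · simp only [if_neg hc]
    fun_prop

theorem hk4_cont_rho (R : Set W) (r : W) :
    Continuous (fun t : ℝ => hk4_mat (rho R (t : ℂ) r)) := by
  refine continuous_matrix (fun i j => ?_)
  simp only [hk4_mat_apply, rho_apply]
  by_cases hc : len R (i * r) < len R i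
  · simp only [if_pos hc]
    fun_prop
  · simp only [if_neg hc]
    fun_prop

theorem hk4_cont_prod (F : ℝ → W → Module.End ℂ (W → ℂ))
    (hF : ∀ r, Continuous (fun t : ℝ => hk4_mat (F t r))) (l : List W) :
    Continuous (fun t : ℝ => hk4_mat ((l.map (F t)).prod)) := by
  induction l with
  | nil =>
    simp only [List.map_nil, List.prod_nil, map_one]
    exact continuous_const
  | cons r l ih =>
    simp only [List.map_cons, List.prod_cons, map_mul]
    exact (hF r).matrix_mul ih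

theorem hk4_cont_Lop (R : Set W) (w : W) :
    Continuous (fun t : ℝ => hk4_mat (Lop R (t : ℂ) w)) :=
  hk4_cont_prod (fun t => lam R (t : ℂ)) (hk4_cont_lam R) (redWord R w)

theorem hk4_cont_Rop (R : Set W) (w : W) :
    Continuous (fun t : ℝ => hk4_mat (Rop R (t : ℂ) w)) :=
  hk4_cont_prod (fun t => rho R (t : ℂ)) (hk4_cont_rho R) (redWord R w).reverse

theorem hk4_cont_coeff (n : ℕ) :
    ContinuousOn (fun t : ℝ => (((t ^ n : ℝ) : ℂ))⁻¹) (Set.Ioi 0) := by
  refine ContinuousOn.inv₀ (by fun_prop) (fun t ht => ?_)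
  have h0 : (0 : ℝ) < t := ht
  have h1 : (t ^ n : ℝ) ≠ 0 := (pow_pos h0 n).ne'
  exact_mod_cast h1

theorem hk4_cont_Cas (R : Set W) :
    ContinuousOn (fun t : ℝ => hk4_mat (Cas R t)) (Set.Ioi 0) := by
  unfold Cas
  simp only [map_sum, map_smul, map_mul]
  refine continuousOn_finsetSum _ (fun w _ => ?_)
  refine ContinuousOn.smul (hk4_cont_coeff (len R w)) ?_
  exact ((hk4_cont_Lop R w).matrix_mul (hk4_cont_Rop R w⁻¹)).continuousOn

theorem hk4_cont_Lc (R : Set W) :
    ContinuousOn (fun t : ℝ => hk4_mat (Lc R t)) (Set.Ioi 0) := by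
  unfold Lc
  simp only [map_sum, map_smul, map_mul]
  refine continuousOn_finsetSum _ (fun w _ => ?_)
  refine ContinuousOn.smul (hk4_cont_coeff (len R w)) ?_
  exact ((hk4_cont_Lop R w).matrix_mul (hk4_cont_Lop R w⁻¹)).continuousOn

theorem hk4_isUnit_det {t : ℝ} (hunit : IsUnit (Lc R t)) : IsUnit (hk4_mat (Lc R t)).det := by
  have h1 : IsUnit (hk4_mat (Lc R t)) := hunit.map hk4_mat
  exact (Matrix.isUnit_iff_isUnit_det _).mp h1

end mat

section P4
variable [Fintype W]

theorem hk4_mat_inverse [DecidableEq W] {f : Module.End ℂ (W → ℂ)} (hf : IsUnit f) :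
    hk4_mat (Ring.inverse f) = (hk4_mat f)⁻¹ := by
  obtain ⟨U, rfl⟩ := hf
  rw [Ring.inverse_unit]
  symm
  apply Matrix.inv_eq_right_inv
  rw [← map_mul, Units.mul_inv, map_one]

/-- continuity in the parameter, after `t = exp s` -/
theorem hk4_continuous_trace (hunit : ∀ t : ℝ, 0 < t → IsUnit (Lc R t)) :
    Continuous (fun s : ℝ => LinearMap.trace ℂ (W → ℂ)
      (Cas R (Real.exp s) * Ring.inverse (Lc R (Real.exp s)))) := by
  classical
  have hexp : ∀ s : ℝ, Real.exp s ∈ Set.Ioi (0 : ℝ) := fun s => Real.exp_pos s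
  have hC : Continuous (fun s : ℝ => hk4_mat (Cas R (Real.exp s))) :=
    (hk4_cont_Cas R).comp_continuous Real.continuous_exp hexp
  have hL : Continuous (fun s : ℝ => hk4_mat (Lc R (Real.exp s))) :=
    (hk4_cont_Lc R).comp_continuous Real.continuous_exp hexp
  have hLi : Continuous (fun s : ℝ => (hk4_mat (Lc R (Real.exp s)))⁻¹) := by
    rw [continuous_iff_continuousAt]
    intro s
    have hne : (hk4_mat (Lc R (Real.exp s))).det ≠ 0 :=
      (hk4_isUnit_det (hunit _ (Real.exp_pos s))).ne_zero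
    have h1 : ContinuousAt Ring.inverse (hk4_mat (Lc R (Real.exp s))).det := by
      rw [Ring.inverse_eq_inv']
      exact continuousAt_inv₀ hne
    have h2 : ContinuousAt (Inv.inv : Matrix W W ℂ → Matrix W W ℂ) (hk4_mat (Lc R (Real.exp s))) :=
      continuousAt_matrix_inv _ h1
    exact ContinuousAt.comp (f := fun s : ℝ => hk4_mat (Lc R (Real.exp s))) h2 hL.continuousAt
  have heq : (fun s : ℝ => LinearMap.trace ℂ (W → ℂ)
      (Cas R (Real.exp s) * Ring.inverse (Lc R (Real.exp s)))) =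
      fun s : ℝ => (hk4_mat (Cas R (Real.exp s)) * (hk4_mat (Lc R (Real.exp s)))⁻¹).trace := by
    funext s
    rw [← hk4_mat_inverse (hunit _ (Real.exp_pos s)), ← map_mul]
    exact (LinearMap.trace_eq_matrix_trace ℂ (Pi.basisFun ℂ W) _)
  rw [heq]
  exact (hC.matrix_mul hLi).matrix_trace

theorem hk4_finrank_const
    (hmem : ∀ t : ℝ, 0 < t → ∀ v : W → ℂ, Cas R t v ∈ Zsp R (t : ℂ))
    (heq : ∀ t : ℝ, 0 < t → ∀ v : W → ℂ, v ∈ Zsp R (t : ℂ) → Cas R t v = Lc R t v)
    (hunit : ∀ t : ℝ, 0 < t → IsUnit (Lc R t))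
    {t : ℝ} (ht : 0 < t) {t' : ℝ} (ht' : 0 < t') :
    Module.finrank ℂ (Zsp R (t : ℂ)) = Module.finrank ℂ (Zsp R (t' : ℂ)) := by
  classical
  refine Cfsg.Agent.Helper8.HeckeContC.h8hcc_finrank_const (fun t : ℝ => Zsp R (t : ℂ))
    (fun t => hk4_mat (Cas R t)) (fun t => hk4_mat (Lc R t)) (hk4_cont_Cas R) (hk4_cont_Lc R)
    (fun u hu => hk4_isUnit_det (hunit u hu)) ?_ ?_ ?_ t ht t' ht'
  · intro u hu v
    rw [hk4_mat_mulVec]
    exact hmem u hu v
  · intro u hu z hz
    rw [hk4_mat_mulVec, hk4_mat_mulVec]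
    exact heq u hu z hz
  · intro u hu z hz
    rw [hk4_mat_mulVec, ← heq u hu z hz]
    exact hmem u hu z

theorem hk4_Zsp_one (R : Set W) :
    Zsp R (1 : ℂ) = Cfsg.Agent.Helper8.HeckeOne.h8ho_Z1 ℂ R := by
  ext v
  rw [mem_Zsp, Cfsg.Agent.Helper8.HeckeOne.h8ho_mem_Z1]
  constructor
  · intro hv r hr x
    have := congrFun (hv r hr) x
    rw [lam_apply, rho_apply] at this
    simpa using this
  · intro hv r hr
    funext x
    rw [lam_apply, rho_apply]
    simp [hv r hr x]

theorem hk_finrank_one (h : Sys R) :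
    Module.finrank ℂ (Zsp R (1 : ℂ)) = Nat.card (ConjClasses W) := by
  rw [hk4_Zsp_one]
  refine Cfsg.Agent.Helper8.HeckeOne.h8ho_finrank_Z1 ℂ ?_
  rw [eq_top_iff]
  intro w _
  exact h.gen w

end P4

end Cfsg.Agent.Hk
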