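import Mathlib
import Cfsg.Agent.Hk.Ops
import Cfsg.Agent.Hk.AlgA

set_option autoImplicit false

/-!
S2319 swarm, first half of package P3: the Hermitian form `form R t` of `Hk/Defs.lean`:
`lam r`, `rho r` are self-adjoint, the adjoint of `Lop w` is `Lop w⁻¹`, and `Lc R t` is injective,
hence a unit (`t > 0`).
-/

namespace Cfsg.Agent.Hk

open Cfsg.Agent.Helper7.InvWords

variable {W : Type*} [Group W] {R : Set W}

section
variable [Fintype W]

/-- Summation over pairs `{x, σ x}`. -/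
theorem hk3f_sum_pair (σ : Equiv.Perm W) (f g : W → ℂ)
    (hfg : ∀ x, f x + f (σ x) = g x + g (σ x)) : ∑ x, f x = ∑ x, g x := by
  have hre : ∀ f : W → ℂ, ∑ x, f (σ x) = ∑ x, f x := fun f =>
    Fintype.sum_equiv σ _ _ (fun x => rfl)
  have h2 : (2 : ℂ) * ∑ x, f x = 2 * ∑ x, g x := by
    calc (2 : ℂ) * ∑ x, f x = ∑ x, f x + ∑ x, f (σ x) := by rw [hre f, two_mul]
      _ = ∑ x, (f x + f (σ x)) := Finset.sum_add_distrib.symm
      _ = ∑ x, (g x + g (σ x)) := Finset.sum_congr rfl (fun x _ => hfg x)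
      _ = ∑ x, g x + ∑ x, g (σ x) := Finset.sum_add_distrib
      _ = 2 * ∑ x, g x := by rw [hre g, two_mul]
  exact mul_left_cancel₀ two_ne_zero h2

theorem hk3f_lam_pair_up (h : Sys R) (t : ℝ) {r : W} (hr : r ∈ R) (v v' : W → ℂ) (x : W)
    (hx : len R (r * x) = len R x + 1) :
    ((t ^ len R x : ℝ) : ℂ) * (lam R (t : ℂ) r v x * (starRingEnd ℂ) (v' x)) +
      ((t ^ len R (r * x) : ℝ) : ℂ) *
        (lam R (t : ℂ) r v (r * x) * (starRingEnd ℂ) (v' (r * x))) =
    ((t ^ len R x : ℝ) : ℂ) * (v x * (starRingEnd ℂ) (lam R (t : ℂ) r v' x)) +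
      ((t ^ len R (r * x) : ℝ) : ℂ) *
        (v (r * x) * (starRingEnd ℂ) (lam R (t : ℂ) r v' (r * x))) := by
  have e1 : r * (r * x) = x := by rw [← mul_assoc, h.invol r hr, one_mul]
  have hA : ¬ len R (r * x) < len R x := by omega
  have hB : len R x < len R (r * x) := by omega
  simp only [lam_apply, e1, if_neg hA, if_pos hB]
  rw [hx, pow_succ]
  simp only [map_add, map_mul, map_sub, map_one, Complex.conj_ofReal, Complex.ofReal_mul,
    Complex.ofReal_pow]
  ring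

theorem hk3f_lam_pair (h : Sys R) (t : ℝ) {r : W} (hr : r ∈ R) (v v' : W → ℂ) (x : W) :
    ((t ^ len R x : ℝ) : ℂ) * (lam R (t : ℂ) r v x * (starRingEnd ℂ) (v' x)) +
      ((t ^ len R (r * x) : ℝ) : ℂ) *
        (lam R (t : ℂ) r v (r * x) * (starRingEnd ℂ) (v' (r * x))) =
    ((t ^ len R x : ℝ) : ℂ) * (v x * (starRingEnd ℂ) (lam R (t : ℂ) r v' x)) +
      ((t ^ len R (r * x) : ℝ) : ℂ) *
        (v (r * x) * (starRingEnd ℂ) (lam R (t : ℂ) r v' (r * x))) := by
  rcases hk_len_left h hr x with hx | hx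
  · exact hk3f_lam_pair_up h t hr v v' x hx
  · have e1 : r * (r * x) = x := by rw [← mul_assoc, h.invol r hr, one_mul]
    have k := hk3f_lam_pair_up h t hr v v' (r * x) (by rw [e1]; omega)
    rw [e1] at k
    rw [add_comm, k, add_comm]

theorem hk_form_lam (h : Sys R) {t : ℝ} (ht : 0 < t) {r : W} (hr : r ∈ R) (v v' : W → ℂ) :
    form R t (lam R (t : ℂ) r v) v' = form R t v (lam R (t : ℂ) r v') := by
  unfold form
  exact hk3f_sum_pair (Equiv.mulLeft r) _ _ (fun x => hk3f_lam_pair h t hr v v' x)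

theorem hk3f_rho_pair_up (h : Sys R) (t : ℝ) {r : W} (hr : r ∈ R) (v v' : W → ℂ) (x : W)
    (hx : len R (x * r) = len R x + 1) :
    ((t ^ len R x : ℝ) : ℂ) * (rho R (t : ℂ) r v x * (starRingEnd ℂ) (v' x)) +
      ((t ^ len R (x * r) : ℝ) : ℂ) *
        (rho R (t : ℂ) r v (x * r) * (starRingEnd ℂ) (v' (x * r))) =
    ((t ^ len R x : ℝ) : ℂ) * (v x * (starRingEnd ℂ) (rho R (t : ℂ) r v' x)) +
      ((t ^ len R (x * r) : ℝ) : ℂ) *
        (v (x * r) * (starRingEnd ℂ) (rho R (t : ℂ) r v' (x * r))) := by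
  have e1 : x * r * r = x := by rw [mul_assoc, h.invol r hr, mul_one]
  have hA : ¬ len R (x * r) < len R x := by omega
  have hB : len R x < len R (x * r) := by omega
  simp only [rho_apply, e1, if_neg hA, if_pos hB]
  rw [hx, pow_succ]
  simp only [map_add, map_mul, map_sub, map_one, Complex.conj_ofReal, Complex.ofReal_mul,
    Complex.ofReal_pow]
  ring

theorem hk3f_rho_pair (h : Sys R) (t : ℝ) {r : W} (hr : r ∈ R) (v v' : W → ℂ) (x : W) :
    ((t ^ len R x : ℝ) : ℂ) * (rho R (t : ℂ) r v x * (starRingEnd ℂ) (v' x)) +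
      ((t ^ len R (x * r) : ℝ) : ℂ) *
        (rho R (t : ℂ) r v (x * r) * (starRingEnd ℂ) (v' (x * r))) =
    ((t ^ len R x : ℝ) : ℂ) * (v x * (starRingEnd ℂ) (rho R (t : ℂ) r v' x)) +
      ((t ^ len R (x * r) : ℝ) : ℂ) *
        (v (x * r) * (starRingEnd ℂ) (rho R (t : ℂ) r v' (x * r))) := by
  rcases hk_len_right h hr x with hx | hx
  · exact hk3f_rho_pair_up h t hr v v' x hx
  · have e1 : x * r * r = x := by rw [mul_assoc, h.invol r hr, mul_one]
    have k := hk3f_rho_pair_up h t hr v v' (x * r) (by rw [e1]; omega)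
    rw [e1] at k
    rw [add_comm, k, add_comm]

theorem hk_form_rho (h : Sys R) {t : ℝ} (ht : 0 < t) {r : W} (hr : r ∈ R) (v v' : W → ℂ) :
    form R t (rho R (t : ℂ) r v) v' = form R t v (rho R (t : ℂ) r v') := by
  unfold form
  exact hk3f_sum_pair (Equiv.mulRight r) _ _ (fun x => hk3f_rho_pair h t hr v v' x)

/-- Adjoint of a word operator: the reversed word. -/
theorem hk3f_form_Lw (h : Sys R) {t : ℝ} (ht : 0 < t) :
    ∀ l : List W, IsWord R l → ∀ v v' : W → ℂ,
      form R t (Lw R (t : ℂ) l v) v' = form R t v (Lw R (t : ℂ) l.reverse v')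
  | [] => by
    intro _ v v'
    simp [Lw]
  | r :: l => by
    intro hl v v'
    rw [isWord_cons] at hl
    have e1 : Lw R (t : ℂ) (r :: l) = lam R (t : ℂ) r * Lw R (t : ℂ) l := by
      simp [Lw]
    have e2 : Lw R (t : ℂ) (r :: l).reverse = Lw R (t : ℂ) l.reverse * lam R (t : ℂ) r := by
      simp [Lw]
    rw [e1, e2, Module.End.mul_apply, Module.End.mul_apply, hk_form_lam h ht hl.1,
      hk3f_form_Lw h ht l hl.2]

theorem hk_form_Lop (h : Sys R) {t : ℝ} (ht : 0 < t) (w : W) (v v' : W → ℂ) :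
    form R t (Lop R (t : ℂ) w v) v' = form R t v (Lop R (t : ℂ) w⁻¹ v') := by
  obtain ⟨hl, hp, hlen⟩ := redWord_spec h w
  have hl' : IsWord R (redWord R w).reverse := isWord_reverse.mpr hl
  have hp' : (redWord R w).reverse.prod = w⁻¹ := by
    rw [prod_reverse_of_invol h.invol hl, hp]
  have hred : Cfsg.Agent.Helper7.InvWords.IsReduced R (redWord R w).reverse := by
    unfold Cfsg.Agent.Helper7.InvWords.IsReduced
    rw [hp', List.length_reverse, hlen, len_inv h.invol (h.gen w)]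
  have e := hk_Lw_eq_Lop h (t : ℂ) hl' hred
  rw [hp'] at e
  rw [← e]
  exact hk3f_form_Lw h ht _ hl v v'

/-- The value of the form on the diagonal, as a real number. -/
noncomputable def hk3f_nsq (R : Set W) (t : ℝ) (v : W → ℂ) : ℝ :=
  ∑ x : W, t ^ len R x * Complex.normSq (v x)

theorem hk3f_form_self (t : ℝ) (v : W → ℂ) : form R t v v = ((hk3f_nsq R t v : ℝ) : ℂ) := by
  unfold form hk3f_nsq
  rw [Complex.ofReal_sum]
  refine Finset.sum_congr rfl (fun x _ => ?_)
  rw [Complex.mul_conj, Complex.ofReal_mul]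

theorem hk3f_nsq_nonneg {t : ℝ} (ht : 0 < t) (v : W → ℂ) : 0 ≤ hk3f_nsq R t v := by
  unfold hk3f_nsq
  exact Finset.sum_nonneg (fun x _ => mul_nonneg (pow_pos ht _).le (Complex.normSq_nonneg _))

theorem hk3f_eq_zero_of_nsq {t : ℝ} (ht : 0 < t) (v : W → ℂ) (h0 : hk3f_nsq R t v = 0) : v = 0 := by
  unfold hk3f_nsq at h0
  have h1 := (Finset.sum_eq_zero_iff_of_nonneg
    (fun x _ => mul_nonneg (pow_pos ht _).le (Complex.normSq_nonneg _))).mp h0
  funext x
  have h2 := h1 x (Finset.mem_univ x)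
  rcases mul_eq_zero.mp h2 with h3 | h3
  · exact absurd h3 (pow_pos ht _).ne'
  · exact Complex.normSq_eq_zero.mp h3

theorem hk3f_form_add_left (t : ℝ) (a b v' : W → ℂ) :
    form R t (a + b) v' = form R t a v' + form R t b v' := by
  unfold form
  rw [← Finset.sum_add_distrib]
  refine Finset.sum_congr rfl (fun x _ => ?_)
  rw [Pi.add_apply]
  ring

theorem hk3f_form_zero_left (t : ℝ) (v' : W → ℂ) : form R t 0 v' = 0 := by
  unfold form
  simp

theorem hk3f_form_smul_left (t : ℝ) (c : ℂ) (a v' : W → ℂ) :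
    form R t (c • a) v' = c * form R t a v' := by
  unfold form
  rw [Finset.mul_sum]
  refine Finset.sum_congr rfl (fun x _ => ?_)
  rw [Pi.smul_apply, smul_eq_mul]
  ring

theorem hk3f_form_sum_left {ι : Type*} (t : ℝ) (s : Finset ι) (f : ι → W → ℂ) (v' : W → ℂ) :
    form R t (∑ i ∈ s, f i) v' = ∑ i ∈ s, form R t (f i) v' := by
  classical
  induction s using Finset.induction_on with
  | empty => simp [hk3f_form_zero_left]
  | insert a s ha ih => rw [Finset.sum_insert ha, Finset.sum_insert ha, hk3f_form_add_left, ih]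

/-- `⟨Lc v, v⟩ = ∑_w t^{-ℓ(w)} ‖T_{w⁻¹} v‖²`. -/
theorem hk3f_form_Lc (h : Sys R) {t : ℝ} (ht : 0 < t) (v : W → ℂ) :
    form R t (Lc R t v) v =
      ((∑ w : W, (t ^ len R w)⁻¹ * hk3f_nsq R t (Lop R (t : ℂ) w⁻¹ v) : ℝ) : ℂ) := by
  unfold Lc
  rw [LinearMap.sum_apply, hk3f_form_sum_left, Complex.ofReal_sum]
  refine Finset.sum_congr rfl (fun w _ => ?_)
  rw [LinearMap.smul_apply, hk3f_form_smul_left, Module.End.mul_apply, hk_form_Lop h ht,
    hk3f_form_self, Complex.ofReal_mul, Complex.ofReal_inv]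

theorem hk_Lc_injective (h : Sys R) {t : ℝ} (ht : 0 < t) : Function.Injective (Lc R t) := by
  rw [injective_iff_map_eq_zero]
  intro v hv
  have h1 := hk3f_form_Lc h ht v
  rw [hv, hk3f_form_zero_left] at h1
  have h2 : (∑ w : W, (t ^ len R w)⁻¹ * hk3f_nsq R t (Lop R (t : ℂ) w⁻¹ v)) = 0 := by
    exact_mod_cast h1.symm
  have h3 := (Finset.sum_eq_zero_iff_of_nonneg
    (fun w _ => mul_nonneg (inv_nonneg.mpr (pow_pos ht _).le) (hk3f_nsq_nonneg ht _))).mp h2
  have h4 := h3 1 (Finset.mem_univ 1)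
  rw [len_one, pow_zero, inv_one, one_mul, inv_one, hk_Lop_one h, Module.End.one_apply] at h4
  exact hk3f_eq_zero_of_nsq ht v h4

theorem hk_Lc_isUnit (h : Sys R) {t : ℝ} (ht : 0 < t) : IsUnit (Lc R t) := by
  rw [LinearMap.isUnit_iff_ker_eq_bot]
  exact LinearMap.ker_eq_bot.mpr (hk_Lc_injective h ht)

end

end Cfsg.Agent.Hk
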