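import Mathlib
import Cfsg.Agent.Hk.Defs
import Cfsg.Agent.Hk.Form
import Cfsg.Agent.Hk.Cas
import Cfsg.Agent.Hk.ConstA

set_option autoImplicit false

/-!
S2319 swarm, package P4 (final names): the dimension of `Zsp R t` is the number of conjugacy
classes of `W` for every real `t > 0`.
-/

namespace Cfsg.Agent.Hk

open Cfsg.Agent.Helper7.InvWords

variable {W : Type*} [Group W] {R : Set W}

section P4
variable [Fintype W]

/-- continuity in the parameter, after `t = exp s` -/
theorem hk_continuous_trace (h : Sys R) :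
    Continuous (fun s : ℝ => LinearMap.trace ℂ (W → ℂ)
      (Cas R (Real.exp s) * Ring.inverse (Lc R (Real.exp s)))) :=
  hk4_continuous_trace (fun _ ht => hk_Lc_isUnit h ht)

theorem hk_finrank_const (h : Sys R) {t : ℝ} (ht : 0 < t) :
    Module.finrank ℂ (Zsp R (t : ℂ)) = Module.finrank ℂ (Zsp R (1 : ℂ)) := by
  have := hk4_finrank_const (R := R) (fun _ hu v => hk_Cas_mem h hu v)
    (fun _ hu _ hv => hk_Cas_eq_Lc h hu hv) (fun _ hu => hk_Lc_isUnit h hu) ht one_pos
  rwa [Complex.ofReal_one] at this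

/-- MAIN OUTPUT of P1–P4 -/
theorem hk_main (h : Sys R) {t : ℝ} (ht : 0 < t) :
    Module.finrank ℂ (Zsp R (t : ℂ)) = Nat.card (ConjClasses W) := by
  rw [hk_finrank_const h ht, hk_finrank_one h]

end P4

end Cfsg.Agent.Hk
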