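import Mathlib
import Cfsg.Agent.Hk.Defs2
import Cfsg.Agent.Helper7.BNBruhat
import Cfsg.Prelude.Def_Perm

set_option autoImplicit false
set_option linter.unusedSectionVars false

/-!
S2319, package P5a: the orbital operators `A w` (`w` in the Weyl group of a BN-pair) on the functions
on `G ⧸ B`, as elements of the commutant of the permutation representation, and the fact that they
form a basis of the commutant.

* `hk5_Rel P w c d`: the cosets `c = xB`, `d = yB` are in relative position `w`: `x⁻¹ y ∈ B w B`;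
* `hk5_M P w`: the `0/1` matrix of the relation; `hk5_A P w = (hk5_M P w).mulVecLin`:
  `(A w f)(c) = ∑_{d : Rel w c d} f d`;
* `hk5_A_mem_commAlg`, `hk5_theta` (`v ↦ ∑ w, v w • A w`), `hk5_theta_injective`,
  `hk5_theta_range` (the image is the commutant), `hk5_thetaEquiv`.
-/

namespace Cfsg.Agent.Hk

open Cfsg Cfsg.Agent.Helper7.BN Cfsg.Agent.Helper7.InvWords

variable {G : Type*} [Group G] (P : Cfsg.BNPair G)

/-- The cosets `c`, `d` of `B` are in relative position `w`. -/
def hk5_Rel (w : W P) (c d : G ⧸ P.B) : Prop :=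
  (Quotient.out c)⁻¹ * Quotient.out d ∈ CW P w

theorem hk5_rel_mk (w : W P) (x y : G) :
    hk5_Rel P w (x : G ⧸ P.B) (y : G ⧸ P.B) ↔ x⁻¹ * y ∈ CW P w := by
  unfold hk5_Rel
  obtain ⟨b, hb⟩ : ∃ b : P.B, Quotient.out (x : G ⧸ P.B) = x * b := by
    have := QuotientGroup.mk_out_eq_mul P.B x
    obtain ⟨b, hb⟩ := this
    exact ⟨b, hb⟩
  obtain ⟨b', hb'⟩ : ∃ b' : P.B, Quotient.out (y : G ⧸ P.B) = y * b' := by
    have := QuotientGroup.mk_out_eq_mul P.B y
    obtain ⟨b, hb⟩ := this
    exact ⟨b, hb⟩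
  rw [hb, hb']
  have e : (x * (b : G))⁻¹ * (y * (b' : G)) = (b : G)⁻¹ * (x⁻¹ * y) * (b' : G) := by group
  rw [e]
  constructor
  · intro h
    have h1 := B_mul_CW P h b.2
    have h2 := CW_mul_B P h1 (P.B.inv_mem b'.2)
    have e2 : (b : G) * ((b : G)⁻¹ * (x⁻¹ * y) * (b' : G)) * (b' : G)⁻¹ = x⁻¹ * y := by group
    rwa [e2] at h2
  · intro h
    exact CW_mul_B P (B_mul_CW P h (P.B.inv_mem b.2)) b'.2

/-- The relative position is invariant under the action of `G`. -/
theorem hk5_rel_smul (w : W P) (g : G) (c d : G ⧸ P.B) :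
    hk5_Rel P w (g • c) (g • d) ↔ hk5_Rel P w c d := by
  induction c using QuotientGroup.induction_on with
  | H x =>
    induction d using QuotientGroup.induction_on with
    | H y =>
      show hk5_Rel P w ((g * x : G) : G ⧸ P.B) ((g * y : G) : G ⧸ P.B) ↔ _
      rw [hk5_rel_mk, hk5_rel_mk]
      have e : (g * x)⁻¹ * (g * y) = x⁻¹ * y := by group
      rw [e]

/-- Two cosets are in exactly one relative position. -/
theorem hk5_rel_exists (c d : G ⧸ P.B) : ∃ w : W P, hk5_Rel P w c d :=
  exists_mem_CW P _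

theorem hk5_rel_unique {w w' : W P} {c d : G ⧸ P.B} (h : hk5_Rel P w c d)
    (h' : hk5_Rel P w' c d) : w = w' :=
  eq_of_mem_CW P h h'

/-- Relative position `1` is equality. -/
theorem hk5_rel_one (c d : G ⧸ P.B) : hk5_Rel P 1 c d ↔ c = d := by
  induction c using QuotientGroup.induction_on with
  | H x =>
    induction d using QuotientGroup.induction_on with
    | H y =>
      rw [hk5_rel_mk, CW_one, QuotientGroup.eq]
      rfl

/-- Inversion of the relative position. -/
theorem hk5_rel_inv (w : W P) (c d : G ⧸ P.B) : hk5_Rel P w⁻¹ d c ↔ hk5_Rel P w c d := by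
  induction c using QuotientGroup.induction_on with
  | H x =>
    induction d using QuotientGroup.induction_on with
    | H y =>
      rw [hk5_rel_mk, hk5_rel_mk]
      constructor
      · intro h
        have := CW_inv P h
        rw [inv_inv] at this
        have e : (y⁻¹ * x)⁻¹ = x⁻¹ * y := by group
        rwa [e] at this
      · intro h
        have := CW_inv P h
        have e : (x⁻¹ * y)⁻¹ = y⁻¹ * x := by group
        rwa [e] at this

section operators

variable [Fintype (G ⧸ P.B)]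

open Classical in
/-- The `0/1` matrix of the relative position `w`. -/
noncomputable def hk5_M (w : W P) : Matrix (G ⧸ P.B) (G ⧸ P.B) ℂ :=
  fun c d => if hk5_Rel P w c d then 1 else 0

omit [Fintype (G ⧸ P.B)] in
theorem hk5_M_apply (w : W P) (c d : G ⧸ P.B) [Decidable (hk5_Rel P w c d)] :
    hk5_M P w c d = if hk5_Rel P w c d then 1 else 0 := by
  unfold hk5_M
  congr

/-- The orbital operator: `(A w f)(c) = ∑_{d : Rel w c d} f d`. -/
noncomputable def hk5_A (w : W P) : Module.End ℂ ((G ⧸ P.B) → ℂ) :=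
  (hk5_M P w).mulVecLin

theorem hk5_A_apply (w : W P) (f : (G ⧸ P.B) → ℂ) (c : G ⧸ P.B) :
    hk5_A P w f c = ∑ d, hk5_M P w c d * f d := rfl

theorem hk5_A_mul (w w' : W P) : hk5_A P w * hk5_A P w' = (hk5_M P w * hk5_M P w').mulVecLin := by
  unfold hk5_A
  rw [Matrix.mulVecLin_mul]
  rfl

theorem hk5_M_one [DecidableEq (G ⧸ P.B)] : hk5_M P (1 : W P) = 1 := by
  classical
  ext c d
  rw [hk5_M_apply, Matrix.one_apply]
  by_cases h : c = d
  · rw [if_pos h, if_pos ((hk5_rel_one P c d).2 h)]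
  · rw [if_neg h, if_neg (fun h' => h ((hk5_rel_one P c d).1 h'))]

theorem hk5_A_one : hk5_A P (1 : W P) = 1 := by
  classical
  unfold hk5_A
  rw [hk5_M_one, Matrix.mulVecLin_one]
  rfl

/-- The transpose of `M w` is `M w⁻¹`. -/
theorem hk5_M_transpose (w : W P) : (hk5_M P w).transpose = hk5_M P w⁻¹ := by
  classical
  ext c d
  rw [Matrix.transpose_apply, hk5_M_apply, hk5_M_apply]
  by_cases h : hk5_Rel P w d c
  · rw [if_pos h, if_pos ((hk5_rel_inv P w d c).2 h)]
  · rw [if_neg h, if_neg (fun h' => h ((hk5_rel_inv P w d c).1 h'))]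

/-- The entries of `M w` are invariant under the diagonal action of `G`. -/
theorem hk5_M_smul (w : W P) (g : G) (c d : G ⧸ P.B) :
    hk5_M P w (g • c) (g • d) = hk5_M P w c d := by
  classical
  rw [hk5_M_apply, hk5_M_apply]
  by_cases h : hk5_Rel P w c d
  · rw [if_pos h, if_pos ((hk5_rel_smul P w g c d).2 h)]
  · rw [if_neg h, if_neg (fun h' => h ((hk5_rel_smul P w g c d).1 h'))]

/-- The orbital operators lie in the commutant of the permutation representation. -/
theorem hk5_A_mem_commAlg (w : W P) :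
    hk5_A P w ∈ commAlg (Cfsg.permRep ℂ G (G ⧸ P.B)) := by
  rw [mem_commAlg]
  intro g
  apply LinearMap.ext
  intro f
  funext c
  show (hk5_A P w f) (g⁻¹ • c) = hk5_A P w (Cfsg.permRep ℂ G (G ⧸ P.B) g f) c
  rw [hk5_A_apply, hk5_A_apply]
  refine Fintype.sum_equiv (MulAction.toPerm g : Equiv.Perm (G ⧸ P.B)) _ _ (fun d => ?_)
  show hk5_M P w (g⁻¹ • c) d * f d = hk5_M P w c (g • d) * f (g⁻¹ • (g • d))
  rw [inv_smul_smul]
  congr 1
  have := hk5_M_smul P w g (g⁻¹ • c) d
  rw [smul_inv_smul] at this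
  exact this.symm

end operators

end Cfsg.Agent.Hk

namespace Cfsg.Agent.Hk

open Cfsg Cfsg.Agent.Helper7.BN Cfsg.Agent.Helper7.InvWords

variable {G : Type*} [Group G] (P : Cfsg.BNPair G)

/-- The relative position of two cosets. -/
noncomputable def hk5_pos (c d : G ⧸ P.B) : W P := Classical.choose (hk5_rel_exists P c d)

theorem hk5_pos_spec (c d : G ⧸ P.B) : hk5_Rel P (hk5_pos P c d) c d :=
  Classical.choose_spec (hk5_rel_exists P c d)

theorem hk5_pos_eq {w : W P} {c d : G ⧸ P.B} (h : hk5_Rel P w c d) : hk5_pos P c d = w :=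
  hk5_rel_unique P (hk5_pos_spec P c d) h

theorem hk5_rel_iff_pos (w : W P) (c d : G ⧸ P.B) : hk5_Rel P w c d ↔ hk5_pos P c d = w :=
  ⟨fun h => hk5_pos_eq P h, fun h => h ▸ hk5_pos_spec P c d⟩

/-- Every relative position occurs, with first coset `B`. -/
theorem hk5_pos_surj (w : W P) : ∃ d : G ⧸ P.B, hk5_pos P ((1 : G) : G ⧸ P.B) d = w := by
  obtain ⟨g, hg⟩ := CW_nonempty P w
  refine ⟨(g : G ⧸ P.B), hk5_pos_eq P ?_⟩
  rw [hk5_rel_mk, inv_one, one_mul]
  exact hg

/-- Two elements of one double coset differ by elements of `B` on both sides. -/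
theorem hk5_CW_conn {w : W P} {x x' : G} (hx : x ∈ CW P w) (hx' : x' ∈ CW P w) :
    ∃ b ∈ P.B, ∃ b' ∈ P.B, x' = b * x * b' := by
  unfold CW at hx hx'
  have h1 : C P x = C P _ := C_eq_of_mem P hx
  rw [← h1] at hx'
  exact (mem_C P).1 hx'

section basis

variable [Fintype (G ⧸ P.B)] [Fintype (W P)]

/-- `v ↦ ∑ w, v w • A w`. -/
noncomputable def hk5_theta : (W P → ℂ) →ₗ[ℂ] Module.End ℂ ((G ⧸ P.B) → ℂ) where
  toFun v := ∑ w, v w • hk5_A P w
  map_add' := by
    intro v v'
    simp only [Pi.add_apply, add_smul, Finset.sum_add_distrib]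
  map_smul' := by
    intro c v
    simp only [Pi.smul_apply, smul_eq_mul, RingHom.id_apply, Finset.smul_sum, mul_smul]

theorem hk5_theta_apply (v : W P → ℂ) : hk5_theta P v = ∑ w, v w • hk5_A P w := rfl

/-- The matrix of `theta v`: the entry at `(c, d)` is the value of `v` at the relative position. -/
theorem hk5_sum_M_apply (v : W P → ℂ) (c d : G ⧸ P.B) :
    (∑ w, v w • hk5_M P w) c d = v (hk5_pos P c d) := by
  classical
  rw [Matrix.sum_apply]
  rw [Finset.sum_eq_single (hk5_pos P c d)]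
  · rw [Matrix.smul_apply, hk5_M_apply, if_pos (hk5_pos_spec P c d), smul_eq_mul, mul_one]
  · intro w _ hw
    rw [Matrix.smul_apply, hk5_M_apply, if_neg, smul_zero]
    intro h
    exact hw (hk5_pos_eq P h).symm
  · intro h
    exact absurd (Finset.mem_univ _) h

theorem hk5_theta_eq_mulVecLin (v : W P → ℂ) :
    hk5_theta P v = (∑ w, v w • hk5_M P w).mulVecLin := by
  rw [hk5_theta_apply]
  unfold hk5_A
  apply LinearMap.ext
  intro f
  funext c
  simp only [LinearMap.sum_apply, LinearMap.smul_apply, Matrix.mulVecLin_apply, Finset.sum_apply,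
    Pi.smul_apply]
  rw [Matrix.mulVec, dotProduct]
  simp only [Matrix.sum_apply, Matrix.smul_apply, Finset.sum_mul, smul_eq_mul]
  rw [Finset.sum_comm]
  apply Finset.sum_congr rfl
  intro w _
  rw [Matrix.mulVec, dotProduct, Finset.mul_sum]
  apply Finset.sum_congr rfl
  intro d _
  ring

theorem hk5_theta_apply_apply (v : W P → ℂ) (f : (G ⧸ P.B) → ℂ) (c : G ⧸ P.B) :
    hk5_theta P v f c = ∑ d, v (hk5_pos P c d) * f d := by
  rw [hk5_theta_eq_mulVecLin, Matrix.mulVecLin_apply, Matrix.mulVec, dotProduct]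
  apply Finset.sum_congr rfl
  intro d _
  rw [hk5_sum_M_apply]

/-- `theta` is injective: the orbital operators are linearly independent. -/
theorem hk5_theta_injective : Function.Injective (hk5_theta P) := by
  classical
  rw [← LinearMap.ker_eq_bot, LinearMap.ker_eq_bot']
  intro v hv
  funext w
  obtain ⟨d, hd⟩ := hk5_pos_surj P w
  have h1 := hk5_theta_apply_apply P v (Pi.single d 1) ((1 : G) : G ⧸ P.B)
  rw [hv] at h1
  rw [Finset.sum_eq_single d] at h1
  · rw [Pi.single_eq_same, mul_one, hd] at h1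
    exact h1.symm
  · intro d' _ hd'
    rw [Pi.single_eq_of_ne hd', mul_zero]
  · intro h
    exact absurd (Finset.mem_univ _) h

/-- `theta v` lies in the commutant. -/
theorem hk5_theta_mem_commAlg (v : W P → ℂ) :
    hk5_theta P v ∈ commAlg (Cfsg.permRep ℂ G (G ⧸ P.B)) := by
  rw [hk5_theta_apply]
  exact Subalgebra.sum_mem _ (fun w _ => Subalgebra.smul_mem _ (hk5_A_mem_commAlg P w) _)

/-- Every element of the commutant is of the form `theta v`. -/
theorem hk5_theta_surj {T : Module.End ℂ ((G ⧸ P.B) → ℂ)}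
    (hT : T ∈ commAlg (Cfsg.permRep ℂ G (G ⧸ P.B))) : ∃ v : W P → ℂ, hk5_theta P v = T := by
  classical
  rw [mem_commAlg] at hT
  -- the matrix of `T`
  set N : (G ⧸ P.B) → (G ⧸ P.B) → ℂ := fun c d => T (Pi.single d 1) c with hN
  -- invariance of the matrix
  have hsingle : ∀ (g : G) (d : G ⧸ P.B),
      Cfsg.permRep ℂ G (G ⧸ P.B) g (Pi.single d (1 : ℂ)) = Pi.single (g • d) 1 := by
    intro g d
    funext x
    show (Pi.single d (1 : ℂ) : (G ⧸ P.B) → ℂ) (g⁻¹ • x) = _
    rw [Pi.single_apply, Pi.single_apply]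
    by_cases hx : x = g • d
    · rw [if_pos hx, if_pos]
      rw [hx, inv_smul_smul]
    · rw [if_neg hx, if_neg]
      intro h
      apply hx
      rw [← h, smul_inv_smul]
  have hinv : ∀ (g : G) (c d : G ⧸ P.B), N (g • c) (g • d) = N c d := by
    intro g c d
    have h1 := congrArg (fun X : Module.End ℂ ((G ⧸ P.B) → ℂ) => X (Pi.single d 1) (g • c)) (hT g)
    have h2 : (Cfsg.permRep ℂ G (G ⧸ P.B) g (T (Pi.single d 1))) (g • c) =
        T (Cfsg.permRep ℂ G (G ⧸ P.B) g (Pi.single d 1)) (g • c) := h1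
    rw [hsingle] at h2
    have h3 : (Cfsg.permRep ℂ G (G ⧸ P.B) g (T (Pi.single d 1))) (g • c) =
        T (Pi.single d 1) (g⁻¹ • (g • c)) := rfl
    rw [h3, inv_smul_smul] at h2
    exact h2.symm
  -- the coefficient function
  let rep : W P → G := fun w => Classical.choose (CW_nonempty P w)
  have hrep : ∀ w, rep w ∈ CW P w := fun w => Classical.choose_spec (CW_nonempty P w)
  refine ⟨fun w => N ((1 : G) : G ⧸ P.B) ((rep w : G) : G ⧸ P.B), ?_⟩
  have hkey : ∀ c d : G ⧸ P.B, N c d =
      N ((1 : G) : G ⧸ P.B) ((rep (hk5_pos P c d) : G) : G ⧸ P.B) := by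
    intro c d
    have hrel := hk5_pos_spec P c d
    revert hrel
    generalize hk5_pos P c d = w
    induction c using QuotientGroup.induction_on with
    | H x =>
      induction d using QuotientGroup.induction_on with
      | H y =>
        intro hrel
        rw [hk5_rel_mk] at hrel
        obtain ⟨b, hb, b', hb', e⟩ := hk5_CW_conn P (hrep w) hrel
        -- N (xB) (yB) = N (B) (x⁻¹ y B) = N (B) (b g_w B) = N (b⁻¹ B) (g_w B) = N (B) (g_w B)
        have e1 : N ((x : G) : G ⧸ P.B) ((y : G) : G ⧸ P.B) =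
            N ((1 : G) : G ⧸ P.B) ((x⁻¹ * y : G) : G ⧸ P.B) := by
          have := hinv x⁻¹ ((x : G) : G ⧸ P.B) ((y : G) : G ⧸ P.B)
          rw [← this]
          congr 1
          show (((x⁻¹ * x : G)) : G ⧸ P.B) = _
          rw [inv_mul_cancel]
        rw [e1, e]
        have e2 : (((b * rep w * b' : G)) : G ⧸ P.B) = ((b * rep w : G) : G ⧸ P.B) := by
          rw [QuotientGroup.eq]
          have : (b * rep w * b')⁻¹ * (b * rep w) = b'⁻¹ := by group
          rw [this]
          exact P.B.inv_mem hb'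
        rw [e2]
        have := hinv b⁻¹ ((b : G) : G ⧸ P.B) ((b * rep w : G) : G ⧸ P.B)
        have e3 : b⁻¹ • ((b : G) : G ⧸ P.B) = ((1 : G) : G ⧸ P.B) := by
          show (((b⁻¹ * b : G)) : G ⧸ P.B) = _
          rw [inv_mul_cancel]
        have e4 : b⁻¹ • ((b * rep w : G) : G ⧸ P.B) = ((rep w : G) : G ⧸ P.B) := by
          show (((b⁻¹ * (b * rep w) : G)) : G ⧸ P.B) = _
          rw [inv_mul_cancel_left]
        rw [e3, e4] at this
        have e5 : ((b : G) : G ⧸ P.B) = ((1 : G) : G ⧸ P.B) := by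
          rw [QuotientGroup.eq, mul_one]
          exact P.B.inv_mem hb
        rw [e5] at this
        exact this.symm
  apply LinearMap.ext
  intro f
  funext c
  rw [hk5_theta_apply_apply]
  -- expand `f` in the basis of the `Pi.single`
  have hf : f = ∑ d, f d • (Pi.single d (1 : ℂ) : (G ⧸ P.B) → ℂ) := by
    funext x
    rw [Finset.sum_apply, Finset.sum_eq_single x]
    · rw [Pi.smul_apply, Pi.single_eq_same, smul_eq_mul, mul_one]
    · intro d _ hd
      rw [Pi.smul_apply, Pi.single_eq_of_ne hd.symm, smul_zero]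
    · intro h
      exact absurd (Finset.mem_univ _) h
  conv_rhs => rw [hf]
  rw [map_sum, Finset.sum_apply]
  apply Finset.sum_congr rfl
  intro d _
  rw [map_smul, Pi.smul_apply, smul_eq_mul, mul_comm]
  congr 1
  exact (hkey c d).symm

/-- The entries of a product of two orbital matrices count the intermediate cosets. -/
theorem hk5_M_mul_apply (u v : W P) (c e : G ⧸ P.B) :
    (hk5_M P u * hk5_M P v) c e =
      (Nat.card {d : G ⧸ P.B // hk5_Rel P u c d ∧ hk5_Rel P v d e} : ℂ) := by
  classical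
  rw [Matrix.mul_apply]
  have h1 : ∀ d : G ⧸ P.B, hk5_M P u c d * hk5_M P v d e =
      if hk5_Rel P u c d ∧ hk5_Rel P v d e then (1 : ℂ) else 0 := by
    intro d
    rw [hk5_M_apply, hk5_M_apply]
    by_cases h1 : hk5_Rel P u c d
    · by_cases h2 : hk5_Rel P v d e
      · rw [if_pos h1, if_pos h2, if_pos ⟨h1, h2⟩, mul_one]
      · rw [if_neg h2, mul_zero, if_neg (fun h => h2 h.2)]
    · rw [if_neg h1, zero_mul, if_neg (fun h => h1 h.1)]
  rw [Finset.sum_congr rfl (fun d _ => h1 d), Finset.sum_boole, Nat.card_eq_fintype_card,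
    Fintype.card_subtype]

/-- The image of `theta` is the commutant. -/
theorem hk5_theta_range :
    LinearMap.range (hk5_theta P) =
      Subalgebra.toSubmodule (commAlg (Cfsg.permRep ℂ G (G ⧸ P.B))) := by
  ext T
  constructor
  · rintro ⟨v, rfl⟩
    exact hk5_theta_mem_commAlg P v
  · intro hT
    obtain ⟨v, hv⟩ := hk5_theta_surj P hT
    exact ⟨v, hv⟩

/-- `theta` as a linear equivalence onto the commutant. -/
noncomputable def hk5_thetaEquiv :
    (W P → ℂ) ≃ₗ[ℂ] commAlg (Cfsg.permRep ℂ G (G ⧸ P.B)) :=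
  LinearEquiv.ofBijective
    ((hk5_theta P).codRestrict
      (Subalgebra.toSubmodule (commAlg (Cfsg.permRep ℂ G (G ⧸ P.B))))
      (fun v => hk5_theta_mem_commAlg P v))
    ⟨fun v v' h => hk5_theta_injective P (congrArg Subtype.val h),
      fun T => by
        obtain ⟨v, hv⟩ := hk5_theta_surj P T.2
        exact ⟨v, Subtype.ext hv⟩⟩

theorem hk5_thetaEquiv_apply (v : W P → ℂ) :
    ((hk5_thetaEquiv P v : commAlg (Cfsg.permRep ℂ G (G ⧸ P.B))) :
      Module.End ℂ ((G ⧸ P.B) → ℂ)) = hk5_theta P v := rfl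

end basis

end Cfsg.Agent.Hk
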