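import Mathlib
import Cfsg.Agent.Hk.OrbA

set_option autoImplicit false
set_option linter.unusedSectionVars false

/-!
S2319, package P5a, add-on: the orbital operators `hk5_A P w` are linearly independent and span the
commutant (the two facts in the shape used by the abstract bridge `Hk/Bridge.lean`), and the
`Fintype` instances needed from `[Finite G]`.
-/

namespace Cfsg.Agent.Hk

open Cfsg Cfsg.Agent.Helper7.BN Cfsg.Agent.Helper7.InvWords

variable {G : Type*} [Group G] (P : Cfsg.BNPair G)

section

variable [Fintype (G ⧸ P.B)] [Fintype (W P)]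

theorem hk5_theta_single [DecidableEq (W P)] (w : W P) :
    hk5_theta P (Pi.single w 1) = hk5_A P w := by
  rw [hk5_theta_apply, Finset.sum_eq_single w]
  · simp
  · intro b _ hb
    simp [Pi.single_eq_of_ne hb]
  · intro h
    exact absurd (Finset.mem_univ w) h

theorem hk5_A_linearIndependent : LinearIndependent ℂ (hk5_A P) := by
  classical
  rw [Fintype.linearIndependent_iff]
  intro g hg
  have h0 : hk5_theta P g = 0 := by rw [hk5_theta_apply]; exact hg
  have h1 : g = 0 := hk5_theta_injective P (by rw [h0, map_zero])
  intro i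
  rw [h1]; rfl

theorem hk5_span_range_A :
    Submodule.span ℂ (Set.range (hk5_A P)) =
      Subalgebra.toSubmodule (commAlg (Cfsg.permRep ℂ G (G ⧸ P.B))) := by
  classical
  rw [← hk5_theta_range]
  apply le_antisymm
  · rw [Submodule.span_le]
    rintro _ ⟨w, rfl⟩
    exact ⟨Pi.single w 1, hk5_theta_single P w⟩
  · rintro _ ⟨v, rfl⟩
    rw [hk5_theta_apply]
    exact Submodule.sum_mem _ fun w _ =>
      Submodule.smul_mem _ _ (Submodule.subset_span ⟨w, rfl⟩)

end

end Cfsg.Agent.Hk
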