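import Mathlib
import Cfsg.Agent.Hk.Defs
import Cfsg.Agent.Hk.Defs2
import Cfsg.Agent.Hk.OrbA
import Cfsg.Agent.Helper5.BNOrbRelC

set_option autoImplicit false

/-!
S2319 swarm, package P5b: the Iwahori relations for the orbital operators of a (B,N)-pair
(`Helper5/BNOrbRelA,B,C`) give `finrank (commCenter (permRep ℂ G (G ⧸ B))) = finrank (Zsp (RS P) q)`.
-/

namespace Cfsg.Agent.Hk

open Cfsg Cfsg.Agent.Helper7.BN Cfsg.Agent.Helper7.InvWords Cfsg.Agent.Helper5.BNOrbRel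

variable {G : Type*} [Group G] (P : Cfsg.BNPair G)

theorem hk5b_rel_iff (w : W P) (c d : G ⧸ P.B) : h5or_Rel P w c d ↔ hk5_Rel P w c d := Iff.rfl

theorem hk5b_M_eq [Fintype (G ⧸ P.B)] (w : W P) : h5or_M P ℂ w = hk5_M P w := by
  classical
  ext c d
  rw [hk5_M_apply]
  by_cases h : hk5_Rel P w c d
  · rw [if_pos h, h5or_M_apply_of_rel P ℂ ((hk5b_rel_iff P w c d).mpr h)]
  · rw [if_neg h, h5or_M_apply_of_not_rel P ℂ (fun h' => h ((hk5b_rel_iff P w c d).mp h'))]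

/-- the number of cosets in relative position `r` to a given coset -/
theorem hk5b_card_rel (r : W P) (x : G) :
    Nat.card {d : G ⧸ P.B // h5or_Rel P r (x : G ⧸ P.B) d} =
      Nat.card {c : G ⧸ P.B // ∃ y ∈ CW P r, (QuotientGroup.mk y : G ⧸ P.B) = c} := by
  apply Nat.card_congr
  refine Equiv.subtypeEquiv (MulAction.toPerm x⁻¹) ?_
  intro d
  induction d using QuotientGroup.induction_on with
  | H z =>
  rw [h5or_rel_mk]
  have e1 : (MulAction.toPerm x⁻¹ : Equiv.Perm (G ⧸ P.B)) ((z : G) : G ⧸ P.B) = ((x⁻¹ * z : G) : G ⧸ P.B) := rfl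
  rw [e1]
  constructor
  · intro h
    exact ⟨x⁻¹ * z, h, rfl⟩
  · rintro ⟨y, hy, hyz⟩
    rw [QuotientGroup.eq] at hyz
    have h1 := CW_mul_B P hy hyz
    have e2 : y * (y⁻¹ * (x⁻¹ * z)) = x⁻¹ * z := by group
    rwa [e2] at h1

theorem hk5b_sum_M [Fintype (G ⧸ P.B)] (q : ℕ) {r : W P}
    (hq : Nat.card {c : G ⧸ P.B // ∃ y ∈ CW P r, (QuotientGroup.mk y : G ⧸ P.B) = c} = q)
    (c : G ⧸ P.B) : ∑ d, h5or_M P ℂ r c d = (q : ℂ) := by
  classical
  induction c using QuotientGroup.induction_on with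
  | H x =>
  have h1 : ∀ d : G ⧸ P.B, h5or_M P ℂ r (x : G ⧸ P.B) d =
      if h5or_Rel P r (x : G ⧸ P.B) d then (1 : ℂ) else 0 := by
    intro d
    by_cases h : h5or_Rel P r (x : G ⧸ P.B) d
    · rw [if_pos h, h5or_M_apply_of_rel P ℂ h]
    · rw [if_neg h, h5or_M_apply_of_not_rel P ℂ h]
  rw [Finset.sum_congr rfl (fun d _ => h1 d), Finset.sum_boole, ← hq, ← hk5b_card_rel P r x,
    Nat.card_eq_fintype_card, Fintype.card_subtype]

theorem hk5b_Theta_eq [Fintype (G ⧸ P.B)] [Fintype (W P)] (v : W P → ℂ) :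
    hk5_theta P v = (h5or_Theta P v).mulVecLin := by
  rw [hk5_theta_eq_mulVecLin]
  have h : (∑ w, v w • hk5_M P w) = h5or_Theta P v := by
    unfold h5or_Theta
    refine Finset.sum_congr rfl fun w _ => ?_
    rw [hk5b_M_eq]
  rw [h]

theorem hk5b_mulVecLin_mul {n : Type*} [Fintype n] (M N : Matrix n n ℂ) :
    (M.mulVecLin : Module.End ℂ (n → ℂ)) * N.mulVecLin = (M * N).mulVecLin := by
  rw [Matrix.mulVecLin_mul]
  rfl

theorem hk5b_mulVecLin_injective {n : Type*} [Fintype n] {M N : Matrix n n ℂ}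
    (h : M.mulVecLin = N.mulVecLin) : M = N := by
  classical
  have h' : Matrix.toLin' M = Matrix.toLin' N := by
    rw [Matrix.toLin'_apply', Matrix.toLin'_apply', h]
  exact Matrix.toLin'.injective h'

/-- the centre of the commutant is the image of `Zsp` under `theta` -/
theorem hk5b_commCenter_eq [Fintype (G ⧸ P.B)] [Fintype (W P)] (q : ℕ)
    (hq : ∀ r ∈ RS P, Nat.card {c : G ⧸ P.B // ∃ y ∈ CW P r, (QuotientGroup.mk y : G ⧸ P.B) = c} = q) :
    commCenter (Cfsg.permRep ℂ G (G ⧸ P.B)) = (Zsp (RS P) (q : ℂ)).map (hk5_theta P) := by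
  classical
  have hq' : ∀ r ∈ RS P, ∀ c : G ⧸ P.B, ∑ d, h5or_M P ℂ r c d = (q : ℂ) :=
    fun r hr c => hk5b_sum_M P q (hq r hr) c
  have hA : ∀ w : W P, hk5_A P w = (h5or_M P ℂ w).mulVecLin := by
    intro w
    unfold hk5_A
    rw [hk5b_M_eq]
  ext T
  rw [mem_commCenter, Submodule.mem_map]
  constructor
  · rintro ⟨hT, hcomm⟩
    obtain ⟨v, rfl⟩ := hk5_theta_surj P hT
    refine ⟨v, ?_, rfl⟩
    rw [h5or_mem_Zsp_iff P q hq']
    intro w
    have h1 := hcomm (hk5_A P w) (hk5_A_mem_commAlg P w)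
    rw [hA, hk5b_Theta_eq, hk5b_mulVecLin_mul, hk5b_mulVecLin_mul] at h1
    exact hk5b_mulVecLin_injective h1
  · rintro ⟨v, hv, rfl⟩
    refine ⟨hk5_theta_mem_commAlg P v, ?_⟩
    intro S hS
    obtain ⟨v', rfl⟩ := hk5_theta_surj P hS
    rw [h5or_mem_Zsp_iff P q hq'] at hv
    have hw : ∀ w : W P, hk5_A P w * hk5_theta P v = hk5_theta P v * hk5_A P w := by
      intro w
      rw [hA, hk5b_Theta_eq, hk5b_mulVecLin_mul, hk5b_mulVecLin_mul, hv w]
    rw [hk5_theta_apply P v', Finset.sum_mul, Finset.mul_sum]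
    refine Finset.sum_congr rfl fun w _ => ?_
    rw [smul_mul_assoc, mul_smul_comm, hw w]

open Module in
/-- **P5 of the S2319 swarm** (Iwahori): for a (B,N)-pair in a finite group with all parameters
`|B r B / B|` equal to `q`, the centre of the commutant of the permutation representation on `G ⧸ B`
has the dimension of `Zsp (RS P) q`. -/
theorem hk_finrank_commCenter {G : Type*} [Group G] [Finite G] (P : Cfsg.BNPair G) (q : ℕ)
    (hq : ∀ r ∈ RS P, Nat.card {c : G ⧸ P.B // ∃ y ∈ CW P r, (QuotientGroup.mk y : G ⧸ P.B) = c} = q) :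
    Module.finrank ℂ (commCenter (Cfsg.permRep ℂ G (G ⧸ P.B))) =
      Module.finrank ℂ (Zsp (RS P) (q : ℂ)) := by
  classical
  have : Fintype (G ⧸ P.B) := Fintype.ofFinite _
  have : Fintype (W P) := Fintype.ofFinite _
  rw [hk5b_commCenter_eq P q hq]
  exact (LinearEquiv.finrank_eq
    (Submodule.equivMapOfInjective (hk5_theta P) (hk5_theta_injective P) (Zsp (RS P) (q : ℂ)))).symm

end Cfsg.Agent.Hk
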